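import Mathlib
import Cfsg.Agent.H337.Bend.Iface
import Cfsg.Agent.H284.StdRed
import Cfsg.Agent.S0205

/-!
# S3145: the centralizer of `X / O(X)` is the centralizer of `X` (helper337)
-/

set_option autoImplicit false

namespace Cfsg.Agent.H337.Bend

open Subgroup Cfsg Cfsg.Agent.H284.StdRed

universe u

variable {G : Type u} [Group G] [Finite G] {X Y : Subgroup G}

/-- a quasisimple group has even order -/
theorem even_of_quasisimple {K : Type*} [Group K] [Finite K] (h : IsQuasisimple K) : Even (Nat.card K) := by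
  by_contra hcon
  rw [Nat.not_even_iff_odd] at hcon
  have h1 : Group.IsSolvable K := Cfsg.Agent.S0205.result hcon
  have h2 := h.2
  have h3 : _root_.commutator K = ⊤ := h.1.commutator_eq_top
  have h4 : Nontrivial K := by
    by_contra hn
    rw [not_nontrivial_iff_subsingleton] at hn
    have := h2.toNontrivial
    obtain ⟨a, b, hab⟩ := exists_pair_ne (K ⧸ center K)
    obtain ⟨a, rfl⟩ := QuotientGroup.mk_surjective a
    obtain ⟨b, rfl⟩ := QuotientGroup.mk_surjective b
    exact hab (by rw [Subsingleton.elim a b])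
  exact (IsSolvable.commutator_lt_top_of_nontrivial K).ne h3

/-- `[g, x]` central for all `x` implies `[g, x] = 1` (`X` perfect) -/
theorem comm_of_central (hX : Group.IsPerfect ↥X) {g : G} (h : ∀ x ∈ X, ∃ z : ↥X, z ∈ center ↥X ∧ g * x * g⁻¹ * x⁻¹ = z) :
    g ∈ centralizer (X : Set G) := by
  choose! z hz1 hz2 using h
  have hzmul : ∀ x ∈ X, ∀ y ∈ X, ((z (x * y) : ↥X) : G) = z x * z y := by
    intro x hx y hy
    rw [← hz2 (x * y) (X.mul_mem hx hy), ← hz2 x hx, ← hz2 y hy]
    have h1 : (z y : G) * x = x * z y := by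
      have := mem_center_iff.1 (hz1 y hy) ⟨x, hx⟩
      exact (congrArg Subtype.val this).symm
    rw [← hz2 y hy] at h1
    calc g * (x * y) * g⁻¹ * (x * y)⁻¹ = g * x * g⁻¹ * ((g * y * g⁻¹ * y⁻¹) * x⁻¹) := by group
      _ = g * x * g⁻¹ * (x⁻¹ * (x * (g * y * g⁻¹ * y⁻¹) * x⁻¹)) := by group
      _ = g * x * g⁻¹ * (x⁻¹ * ((g * y * g⁻¹ * y⁻¹) * x * x⁻¹)) := by rw [h1]
      _ = g * x * g⁻¹ * x⁻¹ * (g * y * g⁻¹ * y⁻¹) := by group
  let f : ↥X →* ↥(center ↥X) :=
    { toFun := fun x => ⟨z x, hz1 x x.2⟩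
      map_one' := by
        apply Subtype.ext
        apply Subtype.ext
        show (z (1 : G) : G) = 1
        rw [← hz2 1 X.one_mem]
        group
      map_mul' := fun x y => by
        apply Subtype.ext
        apply Subtype.ext
        exact hzmul x x.2 y y.2 }
  have hf : f = 1 := by
    have h1 : _root_.commutator ↥X ≤ f.ker := by
      rw [commutator_def, commutator_le]
      intro a _ b _
      rw [MonoidHom.mem_ker, map_commutatorElement, commutatorElement_eq_one_iff_mul_comm]
      exact Subtype.ext (mem_center_iff.1 (f b).2 (f a))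
    have h2 : _root_.commutator ↥X = ⊤ := hX.commutator_eq_top
    rw [h2] at h1
    ext x
    have h3 : f x = 1 := h1 (mem_top x)
    rw [h3]; rfl
  rw [mem_centralizer_iff]
  intro x hx
  have h1 : (z x : G) = 1 := by
    have : f ⟨x, hx⟩ = 1 := by rw [hf]; rfl
    exact congrArg (fun y : ↥(center ↥X) => ((y : ↥X) : G)) this
  rw [← hz2 x hx, mul_inv_eq_one, mul_inv_eq_iff_eq_mul] at h1
  exact h1.symm

/-- `Y = C(X)` -/
theorem eq_centralizer (hq : IsQuasisimple ↥X) (he : Even (Nat.card ↥X))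
    (hY : ∀ g : G, g ∈ Y ↔ ∀ x ∈ X, g * x * g⁻¹ * x⁻¹ ∈ (oddCore ↥X).map X.subtype) :
    Y = centralizer (X : Set G) := by
  apply le_antisymm
  · intro g hg
    apply comm_of_central hq.1
    intro x hx
    obtain ⟨z, hz, he'⟩ := (hY g).1 hg x hx
    exact ⟨z, oddCore_le_center hq he hz, he'.symm⟩
  · intro g hg
    rw [hY]
    intro x hx
    have h1 := mem_centralizer_iff.1 hg x hx
    rw [← h1, mul_inv_cancel_right, mul_inv_cancel]
    exact one_mem _

end Cfsg.Agent.H337.Bend
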