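import Mathlib
import Cfsg.Agent.H337.Bend.Types

/-!
# S3145: more pieces (helper337)

`OutSz`, `RkL`, `RkU`, `RkSz`, `RkCov`. (`TL`, `TU`, `TZ` : `Bend/Types.lean`.)
-/

set_option autoImplicit false

namespace Cfsg.Agent.H337.Bend

open Subgroup Cfsg

universe u

/-- **`Sz(q)`, characteristic two, outer** -/
def OutSz : Prop :=
  ∀ (L : Type u) [Group L] [Finite L] [IsSimpleGroup L], ¬ IsMulCommutative L → IsLieTypeChar 2 L →
    ∀ x : MulAut L, x * x = 1 → x ≠ 1 → ∀ A : Subgroup ↥(fixedSubgroup x), IsComponent A →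
    ∀ (F : Type) [Field F] [Fintype F] (m : ℕ), 1 ≤ m → Fintype.card F = 2 ^ (2 * m + 1) →
      Nonempty (↥A ≃* ↥(Lie.Sz F (2 ^ (m + 1)))) → Nonempty (L ≃* PSp 2 F)

/-- **rank at least two, `L₂(2^a)`, `a ≥ 3`** -/
def RkL : Prop :=
  ∀ (G : Type u) [Group G] [Finite G] [IsSimpleGroup G], ∀ K : Subgroup G, IsStandardSubgroup K →
    ∀ (F : Type) [Field F] [Fintype F] (a : ℕ), 3 ≤ a → Fintype.card F = 2 ^ a →
      Nonempty (↥K ≃* Matrix.ProjectiveSpecialLinearGroup (Fin 2) F) →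
      ¬ PRankLE 2 1 ↥(centralizer (K : Set G)) → False

/-- **rank at least two, `U₃(2ⁿ)`, `SU₃(2ⁿ)`** -/
def RkU : Prop :=
  ∀ (G : Type u) [Group G] [Finite G] [IsSimpleGroup G], ∀ K : Subgroup G, IsStandardSubgroup K → TU ↥K →
      ¬ PRankLE 2 1 ↥(centralizer (K : Set G)) → False

/-- **rank at least two, `Sz(q)`, `q ≥ 32`** -/
def RkSz : Prop :=
  ∀ (G : Type u) [Group G] [Finite G] [IsSimpleGroup G], ∀ K : Subgroup G, IsStandardSubgroup K →
    ∀ (F : Type) [Field F] [Fintype F] (m : ℕ), 2 ≤ m → Fintype.card F = 2 ^ (2 * m + 1) →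
      Nonempty (↥K ≃* ↥(Lie.Sz F (2 ^ (m + 1)))) →
      ¬ PRankLE 2 1 ↥(centralizer (K : Set G)) → False

/-- **rank at least two, `2.Sz(8)`, `2².Sz(8)`** -/
def RkCov : Prop :=
  ∀ (G : Type u) [Group G] [Finite G] [IsSimpleGroup G], ∀ K : Subgroup G, IsStandardSubgroup K →
    ∀ (F : Type) [Field F] [Fintype F], Fintype.card F = 8 →
      Nonempty ((↥K ⧸ center ↥K) ≃* ↥(Lie.Sz F 4)) → IsPGroup 2 ↥(center ↥K) → center ↥K ≠ ⊥ →
      ¬ PRankLE 2 1 ↥(centralizer (K : Set G)) → False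

end Cfsg.Agent.H337.Bend
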