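import Mathlib
import Cfsg.Agent.H337.Bend.Types
import Cfsg.Agent.LieClassical.FieldTransfer
import Cfsg.Agent.H368.TwIso

/-!
# S3145: the conclusion (helper337)
-/

set_option autoImplicit false

namespace Cfsg.Agent.H337.Bend

open Subgroup Cfsg

universe u v u' v'

/-- the list for `X ≅ L₂(4)` -/
def ListFive (L : Type v) [Group L] : Prop :=
  Spor.IsoM12 L ∨ Nonempty (L ≃* ↥(alternatingGroup (Fin 9))) ∨ Spor.IsoJ1 L ∨ Spor.IsoJ2 L ∨
    Nonempty (L ≃* ↥(alternatingGroup (Fin 7))) ∨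
    (∃ (K : Type) (_ : Field K) (_ : Fintype K), Fintype.card K = 25 ∧
      (Nonempty (L ≃* Matrix.ProjectiveSpecialLinearGroup (Fin 2) K) ∨ Nonempty (L ≃* PSU 3 K 5))) ∨
    (∃ (K : Type) (_ : Field K) (_ : Fintype K), Fintype.card K = 5 ∧
      Nonempty (L ≃* Matrix.ProjectiveSpecialLinearGroup (Fin 3) K))

/-- the conclusion of S3145, without the product and `SL₂(5)` -/
def Concl (X : Type u) (L : Type v) [Group X] [Group L] : Prop :=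
  (∃ (F : Type) (_ : Field F) (_ : Fintype F) (n : ℕ), 2 ≤ n ∧ Fintype.card F = 2 ^ n ∧
    Nonempty (X ≃* Matrix.ProjectiveSpecialLinearGroup (Fin 2) F) ∧
    ((∃ (K : Type) (_ : Field K) (_ : Fintype K), Fintype.card K = 4 ^ n ∧
        (Nonempty (L ≃* Matrix.ProjectiveSpecialLinearGroup (Fin 2) K) ∨ Nonempty (L ≃* PSU 3 K (2 ^ n)))) ∨
      Nonempty (L ≃* Matrix.ProjectiveSpecialLinearGroup (Fin 3) F))) ∨
  (∃ (F : Type) (_ : Field F) (_ : Fintype F) (n : ℕ), 2 ≤ n ∧ Fintype.card F = 4 ^ n ∧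
    Nonempty (X ≃* PSU 3 F (2 ^ n)) ∧ Nonempty (L ≃* Matrix.ProjectiveSpecialLinearGroup (Fin 3) F)) ∨
  (∃ (F : Type) (_ : Field F) (_ : Fintype F) (m : ℕ), 1 ≤ m ∧ Fintype.card F = 2 ^ (2 * m + 1) ∧
    Nonempty (X ≃* ↥(Lie.Sz F (2 ^ (m + 1)))) ∧ Nonempty (L ≃* PSp 2 F)) ∨
  (∃ (F : Type) (_ : Field F) (_ : Fintype F), Fintype.card F = 4 ∧
    Nonempty (X ≃* Matrix.ProjectiveSpecialLinearGroup (Fin 2) F) ∧ ListFive L) ∨
  (∃ (F : Type) (_ : Field F) (_ : Fintype F), Fintype.card F = 8 ∧ Nonempty (X ≃* ↥(Lie.Sz F 4)) ∧ Spor.IsoRu L) ∨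
  (∃ (F : Type) (_ : Field F) (_ : Fintype F), Fintype.card F = 8 ∧
    Nonempty (X ≃* Matrix.ProjectiveSpecialLinearGroup (Fin 2) F) ∧
    ∃ (K : Type) (_ : Field K) (_ : Fintype K), Fintype.card K = 3 ∧ Nonempty (L ≃* ↥(Lie.chevG2.group K)))

theorem ne_congr {A : Type u} {A' : Type u'} {B : Type v} [Group A] [Group A'] [Group B] (e : A ≃* A')
    (h : Nonempty (A ≃* B)) : Nonempty (A' ≃* B) := by
  obtain ⟨f⟩ := h
  exact ⟨e.symm.trans f⟩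

theorem ListFive.congr {L : Type v} {L' : Type v'} [Group L] [Group L'] (e : L ≃* L') (h : ListFive L) : ListFive L' := by
  rcases h with h | h | h | h | h | ⟨K, i1, i2, h1, h⟩ | ⟨K, i1, i2, h1, h⟩
  · exact Or.inl (ne_congr e h)
  · exact Or.inr (Or.inl (ne_congr e h))
  · exact Or.inr (Or.inr (Or.inl (ne_congr e h)))
  · exact Or.inr (Or.inr (Or.inr (Or.inl (ne_congr e h))))
  · exact Or.inr (Or.inr (Or.inr (Or.inr (Or.inl (ne_congr e h)))))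
  · exact Or.inr (Or.inr (Or.inr (Or.inr (Or.inr (Or.inl ⟨K, i1, i2, h1, h.imp (ne_congr e) (ne_congr e)⟩)))))
  · exact Or.inr (Or.inr (Or.inr (Or.inr (Or.inr (Or.inr ⟨K, i1, i2, h1, ne_congr e h⟩)))))

theorem Concl.congr {X : Type u} {X' : Type u'} {L : Type v} {L' : Type v'} [Group X] [Group X'] [Group L] [Group L']
    (eX : X ≃* X') (e : L ≃* L') (h : Concl X L) : Concl X' L' := by
  rcases h with ⟨F, i1, i2, n, h1, h2, h3, h⟩ | ⟨F, i1, i2, n, h1, h2, h3, h⟩ | ⟨F, i1, i2, m, h1, h2, h3, h⟩ |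
    ⟨F, i1, i2, h1, h2, h⟩ | ⟨F, i1, i2, h1, h2, h⟩ | ⟨F, i1, i2, h1, h2, K, j1, j2, h3, h⟩
  · refine Or.inl ⟨F, i1, i2, n, h1, h2, ne_congr eX h3, ?_⟩
    rcases h with ⟨K, j1, j2, h4, h⟩ | h
    · exact Or.inl ⟨K, j1, j2, h4, h.imp (ne_congr e) (ne_congr e)⟩
    · exact Or.inr (ne_congr e h)
  · exact Or.inr (Or.inl ⟨F, i1, i2, n, h1, h2, ne_congr eX h3, ne_congr e h⟩)
  · exact Or.inr (Or.inr (Or.inl ⟨F, i1, i2, m, h1, h2, ne_congr eX h3, ne_congr e h⟩))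
  · exact Or.inr (Or.inr (Or.inr (Or.inl ⟨F, i1, i2, h1, ne_congr eX h2, h.congr e⟩)))
  · exact Or.inr (Or.inr (Or.inr (Or.inr (Or.inl ⟨F, i1, i2, h1, ne_congr eX h2, ne_congr e h⟩))))
  · exact Or.inr (Or.inr (Or.inr (Or.inr (Or.inr ⟨F, i1, i2, h1, ne_congr eX h2, K, j1, j2, h3, ne_congr e h⟩))))

/-- the possible types (`SL₂(5)` excluded) -/
def Ty (X : Type u) [Group X] : Prop := TL X ∨ TU X ∨ TZ X

/-- the list of S1771-S1773 which needs refinement -/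
def Lie2 (L : Type u) [Group L] : Prop := IsLieTypeChar 2 L ∨ Lie.IsoTits L

end Cfsg.Agent.H337.Bend
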