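import Mathlib
import Cfsg.Agent.H337.Bend.Types
import Cfsg.Agent.H337.UThreeInner
import Cfsg.Agent.H293.ExcOdd
import Cfsg.Agent.StdSz.Reduce
import Cfsg.Agent.StdL2.Setup
import Cfsg.Agent.S1754
import Cfsg.Agent.S1260
import Cfsg.Agent.S2119
import Cfsg.Agent.H284.SepOrd

/-!
# S3145: a standard subgroup in a simple normal subgroup, the automorphism induced by `t` (helper337)
-/

set_option autoImplicit false
set_option linter.unusedSectionVars false

namespace Cfsg.Agent.H337.Bend

open Subgroup Cfsg Cfsg.Agent.StdL2.Setup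

universe u v

variable {G : Type u} [Group G] [Finite G]

/-- `X` standard, contained in the simple normal subgroup `L` with trivial centralizer, `t ∈ C(X)` an involution -/
structure Sit (L X : Subgroup G) (t : G) : Prop where
  normal : L.Normal
  simple : IsSimpleGroup ↥L
  not_comm : ¬ IsMulCommutative ↥L
  cent : centralizer (L : Set G) = ⊥
  le : X ≤ L
  std : IsStandardSubgroup X
  ht : orderOf t = 2
  htX : t ∈ centralizer (X : Set G)

namespace Sit

variable {L X : Subgroup G} {t : G}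

theorem of_simple (S : Cfsg.Agent.StdSz.Reduce.Simple X) (ht : orderOf t = 2) (htX : t ∈ centralizer (X : Set G)) :
    Sit (layer G) X t :=
  ⟨S.layer_normal, S.simple, S.not_comm, S.centralizer, S.le_layer, S.std, ht, htX⟩

theorem tt (s : Sit L X t) : t * t = 1 := by
  rw [← pow_two, ← s.ht, pow_orderOf_eq_one]

theorem t_ne (s : Sit L X t) : t ≠ 1 := by
  intro h
  have := s.ht
  rw [h, orderOf_one] at this
  omega

/-- conjugation by `t` on `L` -/
noncomputable def al (L : Subgroup G) [L.Normal] (t : G) : MulAut ↥L := MulAut.conjNormal t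

theorem al_coe [L.Normal] (x : ↥L) : ((al L t x : ↥L) : G) = t * x * t⁻¹ := MulAut.conjNormal_apply t x

theorem al_sq (s : Sit L X t) [L.Normal] : al L t * al L t = 1 := by
  have h : al L t * al L t = MulAut.conjNormal (t * t) := (map_mul MulAut.conjNormal t t).symm
  rw [h, s.tt, map_one]

theorem al_ne (s : Sit L X t) [L.Normal] : al L t ≠ 1 := by
  intro h
  apply s.t_ne
  have h1 : t ∈ centralizer (L : Set G) := by
    rw [mem_centralizer_iff]
    intro x hx
    have h2 := congrArg Subtype.val (DFunLike.congr_fun h ⟨x, hx⟩)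
    rw [al_coe] at h2
    have h3 : t * x * t⁻¹ = x := h2
    rw [mul_inv_eq_iff_eq_mul] at h3
    exact h3.symm
  rw [s.cent] at h1
  exact mem_bot.1 h1

theorem mem_fix [L.Normal] {x : ↥L} : x ∈ fixedSubgroup (al L t) ↔ (x : G) * t = t * x := by
  constructor
  · intro h
    have h1 : al L t x = x := h
    have h2 := congrArg Subtype.val h1
    rw [al_coe, mul_inv_eq_iff_eq_mul] at h2
    exact h2.symm
  · intro h
    show al L t x = x
    apply Subtype.ext
    rw [al_coe, mul_inv_eq_iff_eq_mul]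
    exact h.symm

/-- if `t` induces an inner automorphism then `t ∈ L` -/
theorem mem_of_inner (s : Sit L X t) [L.Normal] {e : ↥L} (h : al L t = MulAut.conj e) : t ∈ L := by
  have h1 : (e : G)⁻¹ * t ∈ centralizer (L : Set G) := by
    rw [mem_centralizer_iff]
    intro x hx
    have h2 := congrArg Subtype.val (DFunLike.congr_fun h ⟨x, hx⟩)
    rw [al_coe] at h2
    have h3 : t * x * t⁻¹ = e * x * (e : G)⁻¹ := h2
    have h4 : (e : G)⁻¹ * (t * x * t⁻¹) * t = (e : G)⁻¹ * (e * x * (e : G)⁻¹) * t := by rw [h3]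
    calc x * ((e : G)⁻¹ * t) = (e : G)⁻¹ * (e * x * (e : G)⁻¹) * t := by group
      _ = (e : G)⁻¹ * (t * x * t⁻¹) * t := h4.symm
      _ = (e : G)⁻¹ * t * x := by group
  rw [s.cent, mem_bot, inv_mul_eq_one] at h1
  rw [← h1]
  exact e.2

theorem le_cent_t (s : Sit L X t) : X ≤ centralizer ({t} : Set G) := by
  intro x hx
  rw [mem_centralizer_singleton_iff]
  exact (mem_centralizer_iff.1 s.htX x hx)

theorem cent_le (s : Sit L X t) : centralizer ({t} : Set G) ≤ normalizer (X : Set G) :=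
  (Cfsg.Agent.S1754.result X s.std t s.ht s.htX).1

theorem le_fix (s : Sit L X t) [L.Normal] : X.subgroupOf L ≤ fixedSubgroup (al L t) := by
  intro x hx
  rw [mem_fix]
  exact mem_centralizer_singleton_iff.1 (s.le_cent_t (mem_subgroupOf.1 hx))

theorem norm_fix (s : Sit L X t) [L.Normal] : ∀ g ∈ fixedSubgroup (al L t), ∀ a ∈ X.subgroupOf L, g * a * g⁻¹ ∈ X.subgroupOf L := by
  intro g hg a ha
  rw [mem_subgroupOf] at ha ⊢
  exact (mem_normalizer_iff.1 (s.cent_le (mem_centralizer_singleton_iff.2 (mem_fix.1 hg))) a).1 ha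

noncomputable def eqX (s : Sit L X t) : ↥(X.subgroupOf L) ≃* ↥X := subgroupOfEquivOfLe s.le

theorem qs_sub (s : Sit L X t) : IsQuasisimple ↥(X.subgroupOf L) :=
  Cfsg.Agent.S1260.isQuasisimple_of_mulEquiv s.eqX.symm s.std.1

/-- **the component** of the fixed points -/
theorem comp_fix (s : Sit L X t) [L.Normal] : IsComponent ((X.subgroupOf L).subgroupOf (fixedSubgroup (al L t))) :=
  ⟨(show ((X.subgroupOf L).subgroupOf (fixedSubgroup (al L t))).Normal from
      ⟨fun x hx g => mem_subgroupOf.2 (s.norm_fix g g.2 x (mem_subgroupOf.1 hx))⟩).isSubnormal,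
    Cfsg.Agent.S1260.isQuasisimple_of_mulEquiv (subgroupOfEquivOfLe s.le_fix).symm s.qs_sub⟩

noncomputable def eqFix (s : Sit L X t) [L.Normal] : ↥((X.subgroupOf L).subgroupOf (fixedSubgroup (al L t))) ≃* ↥X :=
  (subgroupOfEquivOfLe s.le_fix).trans s.eqX

/-- the configuration of helper293 -/
theorem cfg (s : Sit L X t) [L.Normal]
    (cyc : ∀ R : Sylow 2 ↥(centralizer (X : Set G)), IsCyclic ↥(R : Subgroup ↥(centralizer (X : Set G)))) :
    Cfsg.Agent.H293.Cfg (al L t) (X.subgroupOf L) where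
  sq := s.al_sq
  ne := s.al_ne
  le := s.le_fix
  nrm := s.norm_fix
  qs := s.qs_sub
  cyc := by
    intro R
    have hc := cyc_subgroupOf s.le cyc
    have h1 : centralizer ((X.subgroupOf L : Subgroup ↥L) : Set ↥L) ⊓ fixedSubgroup (al L t) ≤
        centralizer ((X.subgroupOf L : Subgroup ↥L) : Set ↥L) := inf_le_left
    obtain ⟨S, hS⟩ := ((R.2 : IsPGroup 2 _).map (inclusion h1)).exists_le_sylow
    have h2 := hc S
    let g : ↥(R : Subgroup ↥(centralizer ((X.subgroupOf L : Subgroup ↥L) : Set ↥L) ⊓ fixedSubgroup (al L t))) →*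
        ↥(S : Subgroup ↥(centralizer ((X.subgroupOf L : Subgroup ↥L) : Set ↥L))) :=
      { toFun := fun x => ⟨inclusion h1 (x : ↥(centralizer ((X.subgroupOf L : Subgroup ↥L) : Set ↥L) ⊓ fixedSubgroup (al L t))),
          hS ⟨_, x.2, rfl⟩⟩
        map_one' := rfl
        map_mul' := fun x y => rfl }
    have hg : Function.Injective g := by
      intro x y h
      have h3 := congrArg Subtype.val h
      exact Subtype.ext (inclusion_injective h1 h3)
    exact isCyclic_of_injective g hg

/-- `X` is not normal, `X ≠ L` -/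
theorem ne_top (s : Sit L X t) : X ≠ L := by
  intro h
  have h1 := s.htX
  rw [h, s.cent, mem_bot] at h1
  exact s.t_ne h1

/-- an isomorphic copy of `X × X` is not `L` -/
theorem not_prod (s : Sit L X t) (h : Nonempty (↥L ≃* ↥X × ↥X)) : False := by
  obtain ⟨e⟩ := h
  have h1 := UThreeInner.nontriv_of_qs s.std.1
  exact UThreeInner.not_simple_prod (UThreeInner.simple_congr e s.simple)

end Sit

/-! ### `G₂(5)` and `³D₄(5)` -/

theorem card_mulAut_five {Q : Type*} [Group Q] {F : Type*} [Field F] [Fintype F] (hF : Fintype.card F = 4)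
    (e : Q ≃* Matrix.ProjectiveSpecialLinearGroup (Fin 2) F) : Nat.card (MulAut Q) = 120 := by
  obtain ⟨f⟩ := Cfsg.Agent.S0252.result (F := F) hF
  rw [Nat.card_congr (MulAut.congr (e.trans f)).toEquiv,
    ← Nat.card_congr (MulEquiv.ofBijective _ (Cfsg.Agent.S2119.result 5 (by norm_num) (by norm_num))).toEquiv,
    Nat.card_perm, Nat.card_fin]
  decide

/-- **`G₂(5)`, `³D₄(5)` have no component of type `A₅`** -/
theorem no_exc_five {L : Type u} [Group L] [Finite L] [IsSimpleGroup L] {α : MulAut L} {A : Subgroup L}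
    (c : Cfsg.Agent.H293.Cfg α A) {F : Type v} [Field F] [Fintype F] (hF : Fintype.card F = 4)
    (e : (↥A ⧸ center ↥A) ≃* Matrix.ProjectiveSpecialLinearGroup (Fin 2) F)
    (h : (∃ (E : Type) (_ : Field E) (_ : Fintype E), Fintype.card E = 5 ∧ Nonempty (L ≃* ↥(Lie.chevG2.group E))) ∨
      (∃ (K : Type) (_ : Field K) (_ : Fintype K), Fintype.card K = 125 ∧ Nonempty (L ≃* ↥(Lie.twistedD4 K 5)))) : False := by
  have h120 := card_mulAut_five hF e
  have hc5 : ∀ {E : Type} [Field E] [Fintype E] {n : ℕ}, Fintype.card E = 5 ^ n → CharP E 5 := by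
    intro E _ _ n hE
    obtain ⟨p, hc⟩ := CharP.exists E
    obtain ⟨k, hp, hk⟩ := FiniteField.card E p
    have h2 : p ∣ 5 ^ n := by
      rw [← hE, hk]
      exact dvd_pow_self p k.ne_zero
    have h3 : p = 5 := (Nat.prime_dvd_prime_iff_eq hp Nat.prime_five).1 (hp.dvd_of_dvd_pow h2)
    rw [← h3]
    exact hc
  have hX : IsExceptionalChevChar 5 L ∨ IsTwistedE6D4Char 5 L := by
    rcases h with ⟨E, i1, i2, hE, he⟩ | ⟨E, i1, i2, hE, he⟩
    · left
      have := hc5 (E := E) (n := 1) (by rw [hE]; norm_num)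
      exact ⟨E, i1, i2, this, Or.inl ⟨by omega, he⟩⟩
    · right
      have := hc5 (E := E) (n := 3) (by rw [hE]; norm_num)
      exact ⟨E, i1, i2, this, 5, Nat.prime_five.isPrimePow, Or.inr ⟨by rw [hE]; norm_num, he⟩⟩
  have h5 : ∀ n, 2 ≤ n → ¬ 5 ^ n ∣ Nat.card (MulAut (↥A ⧸ center ↥A)) := by
    intro n hn hd
    have h1 := (pow_dvd_pow 5 hn).trans hd
    rw [h120] at h1
    omega
  have hq : ∀ {E : Type} [Field E] [Fintype E] [CharP E 5], ∃ n, 1 ≤ n ∧ Fintype.card E = 5 ^ n := by
    intro E _ _ _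
    obtain ⟨n, -, hn⟩ := FiniteField.card E 5
    exact ⟨n, n.pos, hn⟩
  rcases c.exc_cases Nat.prime_five (by norm_num) hX with h1 | ⟨E, i1, i2, i3, -, -, h1⟩ | ⟨E, i1, i2, i3, q, hq1, hq2, -, h1⟩
  · exact h5 7 (by norm_num) h1
  · obtain ⟨n, hn, hE⟩ := hq (E := E)
    rw [hE] at h1
    rcases h1 with h1 | ⟨h1, -⟩
    · exact h5 (n * 3) (by omega) (by rwa [pow_mul])
    · exact h5 (n * 2) (by omega) (by rwa [pow_mul])
  · obtain ⟨k, hk, rfl⟩ := Cfsg.Agent.H284.SepOrd.root_pow Nat.prime_five (by norm_num) (hq (E := E)) hq2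
    exact h5 (k * 4) (by omega) (by rwa [pow_mul])

end Cfsg.Agent.H337.Bend
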