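import Mathlib
import Cfsg.Agent.H337.Bend.Concl
import Cfsg.Agent.H337.Bend.Sit
import Cfsg.Agent.S1771
import Cfsg.Agent.S1772
import Cfsg.Agent.S1773
import Cfsg.Agent.S1726

/-!
# S3145: cyclic Sylow 2-subgroups of `C(X)` (helper337)
-/

set_option autoImplicit false

namespace Cfsg.Agent.H337.Bend

open Subgroup Cfsg

universe u v

theorem strongB (H : Type u) [Group H] [Finite H] : HasStrongBProperty H := fun _ _ _ => Cfsg.Agent.S1726.result

theorem center_bot_of_simple {K : Type u} [Group K] (hq : IsQuasisimple K) (h : IsSimpleGroup K) : center K = ⊥ := by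
  rcases (inferInstance : (center K).Normal).eq_bot_or_eq_top with h | h
  · exact h
  · exfalso
    have h1 := hq.2
    obtain ⟨a, ha⟩ := exists_ne (1 : K ⧸ center K)
    obtain ⟨x, rfl⟩ := QuotientGroup.mk_surjective a
    apply ha
    rw [QuotientGroup.eq_one_iff, h]
    exact mem_top x

theorem quot_of_ty {X : Type u} [Group X] {Q : Type v} [Group Q] (h : center X = ⊥) (e : X ≃* Q) :
    Nonempty ((X ⧸ center X) ≃* Q) :=
  ⟨(((QuotientGroup.quotientMulEquivOfEq h).trans QuotientGroup.quotientBot)).trans e⟩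

variable {H : Type u} [Group H] [Finite H] {X : Subgroup H} {t : H}

theorem not_normal (s : Sit (layer H) X t) : ¬ X.Normal := by
  intro h
  have := s.simple
  have h1 : (X.subgroupOf (layer H)).Normal := inferInstance
  rcases s.simple.eq_bot_or_eq_top_of_normal _ h1 with h2 | h2
  · have h3 := (subgroupOf_eq_bot.1 h2).eq_bot
    rw [inf_eq_left.2 s.le] at h3
    have h4 := UThreeInner.nontriv_of_qs s.std.1
    rw [h3] at h4
    exact not_nontrivial _ h4
  · exact s.ne_top (le_antisymm s.le (subgroupOf_eq_top.1 h2))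

/-- a quasisimple group isomorphic to `L₂(2^a)` has trivial centre -/
theorem center_of_psl {K : Type u} [Group K] (hq : IsQuasisimple K) {F : Type v} [Field F] [Fintype F] {a : ℕ}
    (ha : 2 ≤ a) (hF : Fintype.card F = 2 ^ a) (e : K ≃* Matrix.ProjectiveSpecialLinearGroup (Fin 2) F) : center K = ⊥ := by
  have h4 : 4 ≤ Fintype.card F := by
    rw [hF]
    calc 4 = 2 ^ 2 := by norm_num
      _ ≤ 2 ^ a := Nat.pow_le_pow_right (by norm_num) ha
  have h1 : IsSimpleGroup (Matrix.ProjectiveSpecialLinearGroup (Fin 2) F) :=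
    Matrix.ProjectiveSpecialLinearGroup.rank_two_simple (by rw [Nat.card_eq_fintype_card]; omega)
  exact center_bot_of_simple hq (UThreeInner.simple_congr e.symm h1)

/-- **cyclic case** -/
theorem cyc_concl (s : Sit (layer H) X t) (hO : oddCore H = ⊥)
    (hR : ∀ R : Sylow 2 ↥(centralizer (X : Set H)), IsCyclic ↥(R : Subgroup ↥(centralizer (X : Set H))))
    (hty : Ty ↥X) :
    Concl ↥X ↥(layer H) ∨ ((Cfsg.IsLieTypeChar 2 ↥(layer H) ∨ Cfsg.Lie.IsoTits ↥(layer H)) ∧
      ¬ (∃ e : H, e ∈ layer H ∧ ∀ x ∈ layer H, t * x * t⁻¹ = e * x * e⁻¹)) := by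
  have hnn := not_normal s
  have hB := strongB H
  rcases hty with ⟨F, i1, i2, a, ha, hF, ⟨e⟩⟩ | ⟨⟨F, i1, i2, n, hn, hF, ⟨e⟩⟩, hz⟩ | ⟨F, i1, i2, m, hm, hF, ⟨e⟩, hz, hz2⟩
  · have hc : center ↥X = ⊥ := center_of_psl s.std.1 ha hF e
    have eQ := quot_of_ty hc e
    rcases Cfsg.Agent.S1773.result hO hB X s.std hnn hR t s.ht s.htX a ha hF eQ with h | h | ⟨rfl, h⟩ | ⟨h1, h2, h⟩
    · exact (s.not_prod h).elim
    · exact Or.inr h
    · left
      have hF4 : Fintype.card F = 4 := by rw [hF]; norm_num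
      refine Or.inr (Or.inr (Or.inr (Or.inl ⟨F, i1, i2, hF4, ⟨e⟩, ?_⟩)))
      have hbad : ¬ ((∃ (E : Type) (_ : Field E) (_ : Fintype E), Fintype.card E = 5 ∧ Nonempty (↥(layer H) ≃* ↥(Lie.chevG2.group E))) ∨
          (∃ (K : Type) (_ : Field K) (_ : Fintype K), Fintype.card K = 125 ∧ Nonempty (↥(layer H) ≃* ↥(Lie.twistedD4 K 5)))) := by
        intro hbad
        have := s.normal
        have := s.simple
        obtain ⟨f⟩ := eQ
        have hc' : center ↥(X.subgroupOf (layer H)) = ⊥ := center_of_psl s.qs_sub ha hF (s.eqX.trans e)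
        obtain ⟨f'⟩ := quot_of_ty hc' (s.eqX.trans e)
        exact no_exc_five (s.cfg hR) hF4 f' hbad
      rcases h with h | h | h | h | h | ⟨E, j1, j2, h1, h⟩ | ⟨E, j1, j2, h1, h⟩ | h
      · exact Or.inl h
      · exact Or.inr (Or.inl h)
      · exact Or.inr (Or.inr (Or.inl h))
      · exact Or.inr (Or.inr (Or.inr (Or.inl h)))
      · exact Or.inr (Or.inr (Or.inr (Or.inr (Or.inl h))))
      · exact Or.inr (Or.inr (Or.inr (Or.inr (Or.inr (Or.inl ⟨E, j1, j2, h1, h⟩)))))
      · rcases h with h | h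
        · exact Or.inr (Or.inr (Or.inr (Or.inr (Or.inr (Or.inr ⟨E, j1, j2, h1, h⟩)))))
        · exact (hbad (Or.inl ⟨E, j1, j2, h1, h⟩)).elim
      · exact (hbad (Or.inr h)).elim
    · left
      exact Or.inr (Or.inr (Or.inr (Or.inr (Or.inr ⟨F, i1, i2, h2, h1, h⟩))))
  · have hF' : Fintype.card F = 4 ^ n := by
      rw [hF, ← pow_mul, mul_comm, pow_mul]
      norm_num
    rcases Cfsg.Agent.S1771.result hO hB X s.std hnn hR t s.ht s.htX n hn hF' ⟨e⟩ with h | h
    · exact (s.not_prod h).elim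
    · exact Or.inr h
  · rcases Cfsg.Agent.S1772.result hO hB X s.std hnn hR t s.ht s.htX m hm hF ⟨e⟩ with h | h | ⟨h1, h2, h⟩
    · exact (s.not_prod h).elim
    · exact Or.inr h
    · left
      exact Or.inr (Or.inr (Or.inr (Or.inr (Or.inl ⟨F, i1, i2, h2, h1, h⟩))))

end Cfsg.Agent.H337.Bend
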