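import Mathlib
import Cfsg.Agent.H337.Bend.Cyc
import Cfsg.Agent.H337.Bend.Iface2
import Cfsg.Agent.OddHalf.Soft
import Cfsg.Agent.S1766
import Cfsg.Agent.S1768

/-!
# S3145: standard subgroups of a simple group (helper337)
-/

set_option autoImplicit false

namespace Cfsg.Agent.H337.Bend

open Subgroup Cfsg

universe u v

/-- the theorem for simple groups -/
def InnerThm : Prop :=
  ∀ (G : Type u) [Group G] [Finite G] [IsSimpleGroup G], ∀ X : Subgroup G, IsStandardSubgroup X → Ty ↥X →
    IsBenderGroup (↥X ⧸ center ↥X) → Concl ↥X G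

section

variable {G : Type u} [Group G] [Finite G]

theorem exists_invol {K : Subgroup G} (h : Even (Nat.card ↥K)) : ∃ t ∈ K, orderOf t = 2 := by
  have : Fact (Nat.Prime 2) := ⟨Nat.prime_two⟩
  obtain ⟨t, ht⟩ := exists_prime_orderOf_dvd_card' (G := ↥K) 2 h.two_dvd
  exact ⟨t, t.2, by rw [Subgroup.orderOf_coe]; exact ht⟩

theorem not_comm_of_std {X : Subgroup G} (hX : IsStandardSubgroup X) : ¬ IsMulCommutative G := by
  intro h
  refine SignalizersComponents.Components.quasisimple_not_isMulCommutative hX.1 ⟨⟨fun a b => Subtype.ext ?_⟩⟩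
  exact h.is_comm.comm (a : G) b

theorem centralizer_top_eq [IsSimpleGroup G] (hna : ¬ IsMulCommutative G) : centralizer ((⊤ : Subgroup G) : Set G) = ⊥ := by
  rw [coe_top, centralizer_univ]
  rcases (inferInstance : (center G).Normal).eq_bot_or_eq_top with h | h
  · exact h
  · exfalso
    refine hna ⟨⟨fun a b => ?_⟩⟩
    have h1 : a ∈ center G := by rw [h]; exact mem_top a
    exact (mem_center_iff.1 h1 b).symm

theorem sit_top [IsSimpleGroup G] {X : Subgroup G} (hX : IsStandardSubgroup X) {t : G} (ht : orderOf t = 2)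
    (htX : t ∈ centralizer (X : Set G)) : Sit (layer G) X t := by
  have hna := not_comm_of_std hX
  have h1 : layer G = ⊤ := Cfsg.Agent.OddHalf.Soft.layer_eq_top hna
  have hs : IsSimpleGroup ↥(⊤ : Subgroup G) := UThreeInner.simple_congr (topEquiv (G := G)).symm inferInstance
  rw [h1]
  refine ⟨inferInstance, hs, ?_, centralizer_top_eq hna, le_top, hX, ht, htX⟩
  intro h
  refine hna ⟨⟨fun a b => ?_⟩⟩
  exact congrArg Subtype.val (h.is_comm.comm (⟨a, mem_top a⟩ : ↥(⊤ : Subgroup G)) ⟨b, mem_top b⟩)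

theorem oddCore_simple [IsSimpleGroup G] {t : G} (ht : orderOf t = 2) : oddCore G = ⊥ := by
  have hN : (oddCore G).Normal := Cfsg.Agent.Lib.Cores.pPrimeCore_normal 2
  rcases hN.eq_bot_or_eq_top with h | h
  · exact h
  · exfalso
    have h1 := UThreeFinTwo.odd_oddCore G
    rw [h, card_top] at h1
    have h2 : 2 ∣ Nat.card G := ht ▸ orderOf_dvd_natCard t
    exact (Nat.not_even_iff_odd.2 h1) (even_iff_two_dvd.2 h2)

theorem normalClosure_eq_top [IsSimpleGroup G] {X : Subgroup G} (hX : IsQuasisimple ↥X) :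
    normalClosure (X : Set G) = ⊤ := by
  rcases (inferInstance : (normalClosure (X : Set G)).Normal).eq_bot_or_eq_top with h | h
  · exfalso
    have h1 : X ≤ normalClosure (X : Set G) := le_normalClosure
    rw [h, le_bot_iff] at h1
    have h2 := UThreeInner.nontriv_of_qs hX
    rw [h1] at h2
    exact not_nontrivial _ h2
  · exact h

theorem not_normal_simple [IsSimpleGroup G] {X : Subgroup G} (hX : IsStandardSubgroup X) {t : G} (ht : orderOf t = 2)
    (htX : t ∈ centralizer (X : Set G)) : ¬ X.Normal :=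
  not_normal (sit_top hX ht htX)

end

/-- **simple groups** -/
theorem innerThm (hQ : Quat.{u}) (hQs : QuatSz.{u}) (hL : RkL.{u}) (hU : RkU.{u}) (hS : RkSz.{u}) (hC : RkCov.{u}) :
    InnerThm.{u} := by
  intro G _ _ _ X hX hty hB
  obtain ⟨t, htX, ht⟩ := exists_invol hX.2.1.1
  have hna := not_comm_of_std hX
  have s := sit_top hX ht htX
  have hO := oddCore_simple ht
  have hlay : layer G = ⊤ := Cfsg.Agent.OddHalf.Soft.layer_eq_top hna
  have eL : ↥(layer G) ≃* G := (MulEquiv.subgroupCongr hlay).trans topEquiv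
  by_cases hR : ∀ R : Sylow 2 ↥(centralizer (X : Set G)), IsCyclic ↥(R : Subgroup ↥(centralizer (X : Set G)))
  · rcases cyc_concl s hO hR hty with h | ⟨-, h⟩
    · exact h.congr (MulEquiv.refl _) eL
    · exfalso
      exact h ⟨t, by rw [hlay]; exact mem_top t, fun x _ => rfl⟩
  by_cases hrk : PRankLE 2 1 ↥(centralizer (X : Set G))
  · exfalso
    rcases hty with ⟨F, i1, i2, a, ha, hF, ⟨e⟩⟩ | ⟨-, hz⟩ | ⟨F, i1, i2, m, hm, hF, he, hz, hz2⟩
    · refine hR (hQ G X hX ?_ hB hrk)
      rw [center_of_psl hX.1 ha hF e, card_bot]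
      exact odd_one
    · refine hR (hQ G X hX ?_ hB hrk)
      exact Odd.of_dvd_nat (by decide) hz
    · by_cases hZ : center ↥X = ⊥
      · refine hR (hQ G X hX ?_ hB hrk)
        rw [hZ, card_bot]
        exact odd_one
      · refine hR (hQs G X hX ?_ ⟨F, i1, i2, m, hm, hF, he⟩ hrk)
        obtain ⟨k, hk⟩ := IsPGroup.iff_card.1 hz
        rw [hk]
        refine (even_two).pow_of_ne_zero ?_
        rintro rfl
        exact hZ (Subgroup.card_eq_one.1 (by rw [hk, pow_zero]))
  · have hnc := normalClosure_eq_top hX.1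
    have eN : ↥(normalClosure (X : Set G)) ≃* G := (MulEquiv.subgroupCongr hnc).trans topEquiv
    have hnn := not_normal_simple hX ht htX
    rcases hty with ⟨F, i1, i2, a, ha, hF, ⟨e⟩⟩ | hz | ⟨F, i1, i2, m, hm, hF, he, hz, hz2⟩
    · by_cases h3 : 3 ≤ a
      · exact (hL G X hX F a h3 hF ⟨e⟩ hrk).elim
      · obtain rfl : a = 2 := by omega
        have hF4 : Fintype.card F = 4 := by rw [hF]; norm_num
        obtain ⟨f⟩ := Cfsg.Agent.S0252.result (F := F) hF4
        refine Or.inr (Or.inr (Or.inr (Or.inl ⟨F, i1, i2, hF4, ⟨e⟩, ?_⟩)))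
        rcases Cfsg.Agent.S1766.result hO (strongB G) X hX 5 le_rfl ⟨e.trans f⟩ hrk with h | h | ⟨-, h | h⟩
        · exact (hnn h).elim
        · exact Or.inr (Or.inl (ne_congr eN h))
        · exact Or.inl (ne_congr eN h)
        · exact Or.inr (Or.inr (Or.inr (Or.inl (ne_congr eN h))))
    · exact (hU G X hX hz hrk).elim
    · by_cases hZ : center ↥X = ⊥
      · obtain ⟨e⟩ := he
        obtain ⟨e'⟩ := equiv_of_center e hZ
        by_cases h2 : 2 ≤ m
        · exact (hS G X hX F m h2 hF ⟨e'⟩ hrk).elim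
        · obtain rfl : m = 1 := by omega
          have hF8 : Fintype.card F = 8 := by rw [hF]; norm_num
          rcases Cfsg.Agent.S1768.result hO (strongB G) X hX hF8 ⟨e'⟩ hrk with h | h
          · exact (hnn h).elim
          · exact Or.inr (Or.inr (Or.inr (Or.inr (Or.inl ⟨F, i1, i2, hF8, ⟨e'⟩, ne_congr eN h⟩))))
      · by_cases h2 : 2 ≤ m
        · exact (hZ (hz2 h2)).elim
        · obtain rfl : m = 1 := by omega
          have hF8 : Fintype.card F = 8 := by rw [hF]; norm_num
          exact (hC G X hX F hF8 he hz hZ hrk).elim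

end Cfsg.Agent.H337.Bend
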