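import Mathlib
import Cfsg.Agent.H337.Bend.Inner

/-!
# S3145: standard subgroups of a simple group, rank at least two (helper337)
-/

set_option autoImplicit false

namespace Cfsg.Agent.H337.Bend

open Subgroup Cfsg

universe u v

/-- the outcomes of rank at least two -/
def ConclTwo (X : Type u) (L : Type v) [Group X] [Group L] : Prop :=
  (∃ (F : Type) (_ : Field F) (_ : Fintype F), Fintype.card F = 4 ∧
    Nonempty (X ≃* Matrix.ProjectiveSpecialLinearGroup (Fin 2) F) ∧
    (Spor.IsoM12 L ∨ Nonempty (L ≃* ↥(alternatingGroup (Fin 9))) ∨ Spor.IsoJ2 L)) ∨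
  (∃ (F : Type) (_ : Field F) (_ : Fintype F), Fintype.card F = 8 ∧ Nonempty (X ≃* ↥(Lie.Sz F 4)) ∧ Spor.IsoRu L)

/-- the theorem of rank at least two -/
def RankThm : Prop :=
  ∀ (G : Type u) [Group G] [Finite G] [IsSimpleGroup G], ∀ X : Subgroup G, IsStandardSubgroup X → Ty ↥X →
    ¬ PRankLE 2 1 ↥(centralizer (X : Set G)) → ConclTwo ↥X G

theorem rankThm (hL : RkL.{u}) (hU : RkU.{u}) (hS : RkSz.{u}) (hC : RkCov.{u}) : RankThm.{u} := by
  intro G _ _ _ X hX hty hrk
  obtain ⟨t, htX, ht⟩ := exists_invol hX.2.1.1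
  have hO := oddCore_simple ht
  have hnc := normalClosure_eq_top hX.1
  have eN : ↥(normalClosure (X : Set G)) ≃* G := (MulEquiv.subgroupCongr hnc).trans topEquiv
  have hnn := not_normal_simple hX ht htX
  rcases hty with ⟨F, i1, i2, a, ha, hF, ⟨e⟩⟩ | hz | ⟨F, i1, i2, m, hm, hF, he, hz, hz2⟩
  · by_cases h3 : 3 ≤ a
    · exact (hL G X hX F a h3 hF ⟨e⟩ hrk).elim
    · obtain rfl : a = 2 := by omega
      have hF4 : Fintype.card F = 4 := by rw [hF]; norm_num
      obtain ⟨f⟩ := Cfsg.Agent.S0252.result (F := F) hF4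
      refine Or.inl ⟨F, i1, i2, hF4, ⟨e⟩, ?_⟩
      rcases Cfsg.Agent.S1766.result hO (strongB G) X hX 5 le_rfl ⟨e.trans f⟩ hrk with h | h | ⟨-, h | h⟩
      · exact (hnn h).elim
      · exact Or.inr (Or.inl (ne_congr eN h))
      · exact Or.inl (ne_congr eN h)
      · exact Or.inr (Or.inr (ne_congr eN h))
  · exact (hU G X hX hz hrk).elim
  · by_cases hZ : center ↥X = ⊥
    · obtain ⟨e⟩ := he
      obtain ⟨e'⟩ := equiv_of_center e hZ
      by_cases h2 : 2 ≤ m
      · exact (hS G X hX F m h2 hF ⟨e'⟩ hrk).elim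
      · obtain rfl : m = 1 := by omega
        have hF8 : Fintype.card F = 8 := by rw [hF]; norm_num
        rcases Cfsg.Agent.S1768.result hO (strongB G) X hX hF8 ⟨e'⟩ hrk with h | h
        · exact (hnn h).elim
        · exact Or.inr ⟨F, i1, i2, hF8, ⟨e'⟩, ne_congr eN h⟩
    · by_cases h2 : 2 ≤ m
      · exact (hZ (hz2 h2)).elim
      · obtain rfl : m = 1 := by omega
        have hF8 : Fintype.card F = 8 := by rw [hF]; norm_num
        exact (hC G X hX F hF8 he hz hZ hrk).elim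

end Cfsg.Agent.H337.Bend
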