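import Mathlib
import Cfsg.Agent.H337.Bend.Rank
import Cfsg.Agent.H337.Bend.JTwo
import Cfsg.Agent.H284.OneFam
import Cfsg.Agent.S1796
import Cfsg.Agent.H902.Names
import Cfsg.Agent.S1162
import Cfsg.Agent.S1163

/-!
# S3145: two commuting subgroups of a simple group (helper337)
-/

set_option autoImplicit false

namespace Cfsg.Agent.H337.Bend

open Subgroup Cfsg Cfsg.Agent.OrdDiv

universe u v

/-- every proper subgroup is a `K`-group, from the classification -/
theorem kproper (h0 : ∀ (X : Type u) [Group X] [Finite X] [IsSimpleGroup X], IsKnownSimple' X) (G : Type u) [Group G]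
    [Finite G] : IsKProper G := by
  intro H _ H' N _ hs _
  have := hs
  exact h0 _

/-- the rank of a subgroup -/
theorem rank_mono {G : Type u} [Group G] {A : Type v} [Group A] {B : Subgroup G} (f : A →* ↥B) (hf : Function.Injective f)
    (h : ¬ PRankLE 2 1 A) : ¬ PRankLE 2 1 ↥B := by
  intro hB
  apply h
  intro E hE hE2
  have h1 := hB (E.map f) ?_ ?_
  · rwa [card_map_of_injective hf] at h1
  · refine ⟨⟨?_⟩⟩
    rintro ⟨_, x, hx, rfl⟩ ⟨_, y, hy, rfl⟩
    apply Subtype.ext
    have h2 := congrArg Subtype.val (hE.is_comm.comm ⟨x, hx⟩ ⟨y, hy⟩)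
    show f x * f y = f y * f x
    rw [← map_mul, ← map_mul]
    exact congrArg f h2
  · rintro _ ⟨x, hx, rfl⟩
    rw [← map_pow, hE2 x hx, map_one]

/-- no rank one: quasisimple with centre of odd order -/
theorem not_rank_one {G : Type u} [Group G] [Finite G] {X : Subgroup G} (hq : IsQuasisimple ↥X)
    (hz : Odd (Nat.card ↥(center ↥X))) : ¬ PRankLE 2 1 ↥X := by
  intro hr
  obtain ⟨z, hzX, hz2, hzc, -⟩ := Cfsg.Agent.H284.OneFam.exists_inv hq (even_of_quasisimple hq) hr
  have h1 : (⟨z, hzX⟩ : ↥X) ∈ center ↥X := by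
    rw [mem_center_iff]
    intro g
    exact Subtype.ext (mem_centralizer_iff.1 hzc g g.2)
  have h2 := orderOf_dvd_natCard (⟨_, h1⟩ : ↥(center ↥X))
  have h3 : orderOf (⟨_, h1⟩ : ↥(center ↥X)) = 2 := by
    rw [← Subgroup.orderOf_coe, ← Subgroup.orderOf_coe]
    exact hz2
  rw [h3] at h2
  exact (Nat.not_even_iff_odd.2 hz) (even_iff_two_dvd.2 h2)

theorem rank_atLeast {X : Type u} [Group X] [Finite X] (h : ¬ PRankLE 2 1 X) : PRankAtLeast 2 2 X := by
  unfold PRankLE at h
  push Not at h
  obtain ⟨A, h1, h2, h3⟩ := h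
  refine ⟨A, h1, h2, ?_⟩
  have hp : IsPGroup 2 ↥A := fun a => ⟨1, by rw [pow_one]; exact Subtype.ext (h2 a a.2)⟩
  have : Fact (Nat.Prime 2) := ⟨Nat.prime_two⟩
  obtain ⟨k, hk⟩ := IsPGroup.iff_card.1 hp
  rw [hk] at h3 ⊢
  have h4 : 1 < k := (Nat.pow_lt_pow_iff_right (by norm_num)).1 h3
  exact Nat.pow_le_pow_right (by norm_num) h4

variable {G : Type u} [Group G] [Finite G] [IsSimpleGroup G]

/-- **two commuting subgroups in a simple group** -/
theorem comm_false (T : OrderTable.{u}) (h0 : ∀ (X : Type u) [Group X] [Finite X] [IsSimpleGroup X], IsKnownSimple' X)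
    (hR : RankThm.{u}) {X X' : Subgroup G} (hq : IsQuasisimple ↥X) (hty : Ty ↥X) (e : ↥X ≃* ↥X')
    (hc : X' ≤ centralizer (X : Set G))
    (hn : ∀ y ∈ centralizer (X : Set G), orderOf y = 2 → centralizer ({y} : Set G) ≤ normalizer (X : Set G))
    (hn' : ∀ y ∈ centralizer (X' : Set G), orderOf y = 2 → centralizer ({y} : Set G) ≤ normalizer (X' : Set G))
    (hz : Odd (Nat.card ↥(center ↥X))) : False := by
  have hrkX := not_rank_one hq hz
  have hna : ¬ IsMulCommutative G := by
    intro h
    refine SignalizersComponents.Components.quasisimple_not_isMulCommutative hq ⟨⟨fun a b => Subtype.ext ?_⟩⟩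
    exact h.is_comm.comm (a : G) b
  have hev' : Even (Nat.card ↥X') := by
    rw [← Nat.card_congr e.toEquiv]
    exact even_of_quasisimple hq
  obtain ⟨t, htX', ht⟩ := exists_invol hev'
  have hcomp : ∀ y ∈ centralizer (X : Set G), orderOf y = 2 → IsComponentOf X (centralizer ({y} : Set G)) := by
    intro y hy hy2
    have hle : X ≤ centralizer ({y} : Set G) := by
      intro x hx
      rw [mem_centralizer_singleton_iff]
      exact mem_centralizer_iff.1 hy x hx
    refine ⟨hle, ?_, Cfsg.Agent.S1260.isQuasisimple_of_mulEquiv (subgroupOfEquivOfLe hle).symm hq⟩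
    refine (show (X.subgroupOf (centralizer ({y} : Set G))).Normal from ⟨fun x hx g => ?_⟩).isSubnormal
    rw [mem_subgroupOf] at hx ⊢
    exact (mem_normalizer_iff.1 (hn y hy hy2 g.2) x).1 hx
  have hT : IsTerminalPair 2 t X :=
    ⟨ht, hcomp t (hc htX') ht, (even_of_quasisimple hq).two_dvd, fun y hy hy2 => hcomp y hy hy2⟩
  have hst := Cfsg.Agent.S1796.result hna (kproper h0 G) t X hT (rank_atLeast hrkX)
  have hrk : ¬ PRankLE 2 1 ↥(centralizer (X : Set G)) :=
    rank_mono ((inclusion hc).comp e.toMonoidHom) ((inclusion_injective hc).comp e.injective) hrkX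
  have hXX' : ∀ hs : IsSimpleGroup ↥X, (Nat.card ↥X) * (Nat.card ↥X) ∣ Nat.card G := by
    intro hs
    have hZ := center_bot_of_simple hq hs
    have hdis : Disjoint X X' := by
      rw [disjoint_iff, eq_bot_iff]
      rintro x ⟨hx, hx'⟩
      have h1 : (⟨x, hx⟩ : ↥X) ∈ center ↥X := by
        rw [mem_center_iff]
        intro g
        exact Subtype.ext (mem_centralizer_iff.1 (hc hx') g g.2)
      rw [hZ, mem_bot] at h1
      exact mem_bot.2 (congrArg Subtype.val h1)
    let f : ↥X × ↥X' →* G :=
      { toFun := fun p => p.1 * p.2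
        map_one' := by simp
        map_mul' := fun p q => by
          have h1 : (q.1 : G) * p.2 = p.2 * q.1 := mem_centralizer_iff.1 (hc p.2.2) q.1 q.1.2
          show (p.1 * q.1 : G) * (p.2 * q.2) = p.1 * p.2 * (q.1 * q.2)
          calc (p.1 * q.1 : G) * (p.2 * q.2) = p.1 * (q.1 * p.2) * q.2 := by group
            _ = p.1 * (p.2 * q.1) * q.2 := by rw [h1]
            _ = p.1 * p.2 * (q.1 * q.2) := by group }
    have hf : Function.Injective f := mul_injective_of_disjoint hdis
    have h2 := card_dvd_of_injective f hf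
    rwa [Nat.card_prod, ← Nat.card_congr e.toEquiv] at h2
  rcases hR G X hst hty hrk with ⟨F, i1, i2, hF, ⟨g⟩, h⟩ | ⟨F, i1, i2, hF, ⟨g⟩, h⟩
  · obtain ⟨f⟩ := Cfsg.Agent.S0252.result (F := F) hF
    have h60 : Nat.card ↥X = 60 := by
      rw [Nat.card_congr (g.trans f).toEquiv, nat_card_alternatingGroup, Nat.card_eq_fintype_card, Fintype.card_fin]
      rfl
    have hs : IsSimpleGroup ↥X :=
      (MulEquiv.isSimpleGroup_congr (g.trans f)).2 (alternatingGroup.isSimpleGroup_five)
    have hdvd := hXX' hs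
    rw [h60] at hdvd
    rcases h with h | ⟨⟨h⟩⟩ | h
    · rw [show Nat.card G = 95040 from T.spor G (.m12, 95040) (by decide) h] at hdvd
      omega
    · have h1 : Nat.card G = 181440 := by
        rw [Nat.card_congr h.toEquiv, nat_card_alternatingGroup, Nat.card_eq_fintype_card, Fintype.card_fin]
        decide
      rw [h1] at hdvd
      omega
    · have hs' : IsSimpleGroup ↥X' := (MulEquiv.isSimpleGroup_congr e).1 hs
      have h60' : Nat.card ↥X' = 60 := by rw [← Nat.card_congr e.toEquiv, h60]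
      have hc' : X ≤ centralizer (X' : Set G) := by
        intro x hx
        rw [mem_centralizer_iff]
        intro y hy
        exact (mem_centralizer_iff.1 (hc hy) x hx).symm
      obtain ⟨d, hd⟩ := JTwo.exists_conj h hs hs' h60 h60' hc (fun y hy hy2 => hn y (hc hy) hy2)
        (fun y hy hy2 => hn' y (hc' hy) hy2)
      refine hst.2.2.1 d ?_ ?_
      · rw [hd]
        intro h3
        have h4 : X ≤ centralizer (X : Set G) := h3 ▸ hc
        refine SignalizersComponents.Components.quasisimple_not_isMulCommutative hq ⟨⟨fun a b => Subtype.ext ?_⟩⟩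
        exact mem_centralizer_iff.1 (h4 b.2) a a.2
      · rw [hd, commutator_comm, commutator_eq_bot_iff_le_centralizer]
        exact hc
  · have hm : Fintype.card F = 2 ^ (2 * 1 + 1) := by rw [hF]; norm_num
    have hcX : Nat.card ↥X = 29120 := by
      rw [Nat.card_congr g.toEquiv]
      have := (Cfsg.Agent.S1163.result (F := F) (m := 1) le_rfl hm).1
      rw [show (2 : ℕ) ^ (1 + 1) = 4 by norm_num] at this
      rw [this]
      norm_num
    have hs : IsSimpleGroup ↥X := by
      have h1 := Cfsg.Agent.S1162.result (F := F) (m := 1) le_rfl hm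
      rw [show (2 : ℕ) ^ (1 + 1) = 4 by norm_num] at h1
      exact (MulEquiv.isSimpleGroup_congr g).2 h1
    have hdvd := hXX' hs
    rw [hcX, show Nat.card G = 145926144000 from T.spor G (.ru, 145926144000) (by decide) h] at hdvd
    omega

end Cfsg.Agent.H337.Bend
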