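import Mathlib
import Cfsg.Agent.H337.Bend.Cyc
import Cfsg.Agent.H337.Bend.OutLU
import Cfsg.Agent.H337.Bend.Iface2
import Cfsg.Agent.StdU3.FinalRed

/-!
# S3145: `t` induces an outer automorphism of a group of Lie type in characteristic two (helper337)
-/

set_option autoImplicit false

namespace Cfsg.Agent.H337.Bend

open Subgroup Cfsg Cfsg.Agent.OrdDiv Cfsg.Agent.H902 Cfsg.Agent.H902.Names

universe u v

theorem three_dvd_sq {q : ℕ} (h : ¬ 3 ∣ q) : 3 ∣ q ^ 2 - 1 := by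
  have h1 : q % 3 = 1 ∨ q % 3 = 2 := by omega
  have h2 : q ^ 2 % 3 = 1 := by
    rcases h1 with h1 | h1 <;> rw [Nat.pow_mod, h1]
  omega

theorem three_dvd_psl {A : Type v} [Group A] {F : Type} [Field F] [Fintype F] {a : ℕ} (ha : 2 ≤ a) (hF : Fintype.card F = 2 ^ a)
    (e : A ≃* Matrix.ProjectiveSpecialLinearGroup (Fin 2) F) : 3 ∣ Nat.card A := by
  have h4 : 4 ≤ 2 ^ a := by
    calc 4 = 2 ^ 2 := by norm_num
      _ ≤ 2 ^ a := Nat.pow_le_pow_right (by norm_num) ha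
  have hr : Art.Real (.L 2) 2 a (Nat.card A) := by
    rw [Nat.card_congr e.toEquiv]
    exact psl_real Nat.prime_two (by omega) hF le_rfl (fun _ => h4)
  have h1 := hr.eq
  have h2 : Art.num (.L 2) (2 ^ a) = (2 ^ a) ^ 2 - 1 := by
    change ∏ i ∈ Finset.range 1, ((2 ^ a) ^ (i + 2) - 1) = _
    rw [Finset.prod_range_one]
  have h3 : Art.dd (.L 2) (2 ^ a) = Nat.gcd 2 (2 ^ a - 1) := rfl
  have hn3 : ¬ 3 ∣ 2 ^ a := by
    intro h
    have := (Nat.prime_three).dvd_of_dvd_pow h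
    omega
  have h5 : 3 ∣ Nat.gcd 2 (2 ^ a - 1) * Nat.card A := by
    rw [← h3, h1, h2]
    exact Dvd.dvd.mul_left (three_dvd_sq hn3) _
  refine (Nat.Coprime.dvd_mul_left ?_).1 h5
  exact Nat.Coprime.coprime_dvd_right (Nat.gcd_dvd_left 2 _) (by norm_num)

variable {H : Type u} [Group H] [Finite H] {L X : Subgroup H} {t : H}

theorem lie2_concl (T : OrderTable.{u}) (hSz : OutSz.{u}) (s : Sit L X t) (hL : IsLieTypeChar 2 ↥L ∨ Lie.IsoTits ↥L)
    (ho : t ∉ L) (hty : Ty ↥X) : Concl ↥X ↥L := by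
  have := s.normal
  have := s.simple
  rcases hL with hL | hL
  · have hA := s.comp_fix
    obtain ⟨hs, -, -⟩ := H291.LieTwo.simple_comp s.not_comm hL s.al_sq hA
    have hXs : IsSimpleGroup ↥X := UThreeInner.simple_congr s.eqFix hs
    have hc := center_bot_of_simple s.std.1 hXs
    rcases hty with ⟨F, i1, i2, a, ha, hF, ⟨e⟩⟩ | ⟨⟨F, i1, i2, n, hn, hF, ⟨e⟩⟩, -⟩ | ⟨F, i1, i2, m, hm, hF, ⟨e⟩, -, -⟩
    · have hP := H291.LieTwo.named T s.not_comm hL s.al_sq s.al_ne hA (three_dvd_psl ha hF (s.eqFix.trans e))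
      rcases l2_of_pairs T hP ha hF (s.eqFix.trans e) with h | ⟨rfl, h⟩
      · exact Or.inl ⟨F, i1, i2, a, ha, hF, ⟨e⟩, h⟩
      · refine Or.inr (Or.inr (Or.inr (Or.inl ⟨F, i1, i2, by rw [hF]; norm_num, ⟨e⟩, ?_⟩)))
        rcases h with h | h
        · exact Or.inr (Or.inr (Or.inr (Or.inr (Or.inr (Or.inl h)))))
        · exact Or.inr (Or.inr (Or.inr (Or.inr (Or.inr (Or.inr h)))))
    · obtain ⟨e'⟩ := equiv_of_center e hc
      have hF' : Fintype.card F = 4 ^ n := by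
        rw [hF, ← pow_mul, mul_comm, pow_mul]
        norm_num
      have h3 : 3 ∣ Nat.card ↥((X.subgroupOf L).subgroupOf (fixedSubgroup (Sit.al L t))) := by
        rw [Nat.card_congr (s.eqFix.trans e').toEquiv]
        exact StdU3.FinalRed.three_dvd_psu hF'
      have hP := H291.LieTwo.named T s.not_comm hL s.al_sq s.al_ne hA h3
      exact Or.inr (Or.inl ⟨F, i1, i2, n, hn, hF', ⟨e'⟩, u3_of_pairs T hP hn hF (s.eqFix.trans e')⟩)
    · obtain ⟨e'⟩ := equiv_of_center e hc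
      have := hSz ↥L s.not_comm hL (Sit.al L t) s.al_sq s.al_ne _ hA F m hm hF ⟨s.eqFix.trans e'⟩
      exact Or.inr (Or.inr (Or.inl ⟨F, i1, i2, m, hm, hF, ⟨e'⟩, this⟩))
  · exfalso
    obtain ⟨y, hy⟩ := H246.TitsInner.inner_iso hL (Sit.al L t) s.al_sq
    exact ho (s.mem_of_inner hy)

end Cfsg.Agent.H337.Bend
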