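import Mathlib
import Cfsg.Agent.H337.Bend.Inner
import Cfsg.Agent.H337.Bend.Outer

/-!
# S3145: the standard case (helper337)
-/

set_option autoImplicit false

namespace Cfsg.Agent.H337.Bend

open Subgroup Cfsg Cfsg.Agent.OrdDiv Cfsg.Agent.StdL2.Setup

universe u v w

/-! ### transport -/

theorem map_center {A : Type u} {B : Type v} [Group A] [Group B] (e : A ≃* B) : (center A).map e.toMonoidHom = center B := by
  ext x
  constructor
  · rintro ⟨y, hy, rfl⟩
    rw [mem_center_iff]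
    intro g
    have h1 := mem_center_iff.mp hy (e.symm g)
    have h2 := congrArg e h1
    simpa using h2
  · intro hx
    refine ⟨e.symm x, ?_, by simp⟩
    rw [SetLike.mem_coe, mem_center_iff]
    intro g
    have h1 := mem_center_iff.mp hx (e g)
    have h2 := congrArg e.symm h1
    simpa using h2

/-- the isomorphism of the central quotients -/
noncomputable def qcongr {A : Type u} {B : Type v} [Group A] [Group B] (e : A ≃* B) : (A ⧸ center A) ≃* (B ⧸ center B) :=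
  QuotientGroup.congr _ _ e (map_center e)

theorem Ty.congr {A : Type u} {B : Type v} [Group A] [Group B] (e : A ≃* B) (h : Ty A) : Ty B := by
  rcases h with ⟨F, i1, i2, a, ha, hF, h⟩ | ⟨⟨F, i1, i2, n, hn, hF, h⟩, hz⟩ | ⟨F, i1, i2, m, hm, hF, h, hz, hz2⟩
  · exact Or.inl ⟨F, i1, i2, a, ha, hF, ne_congr e h⟩
  · refine Or.inr (Or.inl ⟨⟨F, i1, i2, n, hn, hF, ne_congr (qcongr e) h⟩, ?_⟩)
    rwa [← Nat.card_congr (Subgroup.centerCongr e).toEquiv]
  · refine Or.inr (Or.inr ⟨F, i1, i2, m, hm, hF, ne_congr (qcongr e) h, ?_, ?_⟩)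
    · exact IsPGroup.of_equiv hz (Subgroup.centerCongr e)
    · intro h2
      rw [← map_center e, hz2 h2, Subgroup.map_bot]

theorem bender_congr {A : Type u} {B : Type v} [Group A] [Group B] (e : A ≃* B) (h : IsBenderGroup A) : IsBenderGroup B := by
  rcases h with ⟨F, i1, i2, hc, h4, h⟩ | ⟨F, i1, i2, n, hn, hF, h⟩ | ⟨F, i1, i2, m, hm, hF, h⟩
  · exact Or.inl ⟨F, i1, i2, hc, h4, ne_congr e h⟩
  · exact Or.inr (Or.inl ⟨F, i1, i2, n, hn, hF, ne_congr e h⟩)
  · exact Or.inr (Or.inr ⟨F, i1, i2, m, hm, hF, ne_congr e h⟩)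

/-! ### the group `L⟨t⟩` -/

section Sub

variable {G : Type u} [Group G] [Finite G] {L X : Subgroup G} {t : G}

theorem mem_Lt (L : Subgroup G) (t : G) : t ∈ L ⊔ zpowers t := (le_sup_right : zpowers t ≤ _) (mem_zpowers t)

theorem Sit.sub (s : Sit L X t) :
    Sit (L.subgroupOf (L ⊔ zpowers t)) (X.subgroupOf (L ⊔ zpowers t)) (⟨t, mem_Lt L t⟩ : ↥(L ⊔ zpowers t)) := by
  have hLH : L ≤ L ⊔ zpowers t := le_sup_left
  have hAH : X ≤ L ⊔ zpowers t := s.le.trans hLH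
  have hn := s.normal
  have e := subgroupOfEquivOfLe hLH
  have := s.simple
  refine ⟨inferInstance, e.isSimpleGroup, ?_, ?_, ?_, ?_, ?_, ?_⟩
  · intro h
    apply s.not_comm
    refine ⟨⟨fun x y => ?_⟩⟩
    have := h.is_comm.comm (e.symm x) (e.symm y)
    have h2 := congrArg e this
    simpa using h2
  · rw [← le_bot_iff]
    intro x hx
    have h1 := (mem_centralizer_subgroupOf hLH).mp hx
    rw [s.cent, mem_bot] at h1
    rw [mem_bot]
    exact Subtype.ext h1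
  · intro x hx
    exact mem_subgroupOf.mpr (s.le (mem_subgroupOf.mp hx))
  · exact std_subgroupOf hAH s.std s.ht s.htX (mem_Lt L t)
  · rw [← Subgroup.orderOf_coe]; exact s.ht
  · exact (mem_centralizer_subgroupOf hAH).mpr s.htX

theorem quot_cyclic (hn : L.Normal) : IsCyclic (↥(L ⊔ zpowers t) ⧸ L.subgroupOf (L ⊔ zpowers t)) := by
  refine ⟨⟨QuotientGroup.mk (⟨t, mem_Lt L t⟩ : ↥(L ⊔ zpowers t)), ?_⟩⟩
  intro q
  obtain ⟨h, rfl⟩ := QuotientGroup.mk_surjective q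
  obtain ⟨x, hx, y, hy, hxy⟩ := mem_sup_of_normal_left.1 h.2
  obtain ⟨k, rfl⟩ := mem_zpowers_iff.1 hy
  refine ⟨k, ?_⟩
  show (QuotientGroup.mk (⟨t, mem_Lt L t⟩ : ↥(L ⊔ zpowers t)) : ↥(L ⊔ zpowers t) ⧸ L.subgroupOf (L ⊔ zpowers t)) ^ k =
    QuotientGroup.mk h
  rw [← QuotientGroup.mk_zpow, QuotientGroup.eq]
  rw [mem_subgroupOf]
  have h1 : (((⟨t, mem_Lt L t⟩ : ↥(L ⊔ zpowers t)) ^ k)⁻¹ * h : ↥(L ⊔ zpowers t)) = (t ^ k)⁻¹ * (x * t ^ k) := by
    rw [hxy]
    simp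
  have h2 : ((((⟨t, mem_Lt L t⟩ : ↥(L ⊔ zpowers t)) ^ k)⁻¹ * h : ↥(L ⊔ zpowers t)) : G) = (t ^ k)⁻¹ * x * (t ^ k)⁻¹⁻¹ := by
    rw [h1]
    group
  rw [h2]
  exact hn.conj_mem x hx _

theorem cyc_sub (s : Sit L X t) (hodd : Odd (Nat.card ↥(centralizer (X : Set G) ⊓ L : Subgroup G))) :
    ∀ R : Sylow 2 ↥(centralizer ((X.subgroupOf (L ⊔ zpowers t) : Subgroup ↥(L ⊔ zpowers t)) : Set ↥(L ⊔ zpowers t))),
      IsCyclic ↥(R : Subgroup ↥(centralizer ((X.subgroupOf (L ⊔ zpowers t) : Subgroup ↥(L ⊔ zpowers t)) :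
        Set ↥(L ⊔ zpowers t)))) := by
  intro R
  have hn := s.normal
  have hcyc := quot_cyclic (L := L) (t := t) hn
  have hXH : X ≤ L ⊔ zpowers t := s.le.trans le_sup_left
  let f : ↥(R : Subgroup ↥(centralizer ((X.subgroupOf (L ⊔ zpowers t) : Subgroup ↥(L ⊔ zpowers t)) : Set ↥(L ⊔ zpowers t)))) →*
      (↥(L ⊔ zpowers t) ⧸ L.subgroupOf (L ⊔ zpowers t)) :=
    (QuotientGroup.mk' (L.subgroupOf (L ⊔ zpowers t))).comp ((centralizer
      ((X.subgroupOf (L ⊔ zpowers t) : Subgroup ↥(L ⊔ zpowers t)) : Set ↥(L ⊔ zpowers t))).subtype.comp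
        (R : Subgroup ↥(centralizer ((X.subgroupOf (L ⊔ zpowers t) : Subgroup ↥(L ⊔ zpowers t)) :
          Set ↥(L ⊔ zpowers t)))).subtype)
  have hf : Function.Injective f := by
    rw [injective_iff_map_eq_one]
    intro r hr
    have h1 : ((r : ↥(centralizer ((X.subgroupOf (L ⊔ zpowers t) : Subgroup ↥(L ⊔ zpowers t)) : Set ↥(L ⊔ zpowers t)))) :
        ↥(L ⊔ zpowers t)) ∈ L.subgroupOf (L ⊔ zpowers t) := (QuotientGroup.eq_one_iff _).1 hr
    have h2 : (((r : ↥(centralizer ((X.subgroupOf (L ⊔ zpowers t) : Subgroup ↥(L ⊔ zpowers t)) : Set ↥(L ⊔ zpowers t)))) :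
        ↥(L ⊔ zpowers t)) : G) ∈ centralizer (X : Set G) ⊓ L := by
      refine ⟨(mem_centralizer_subgroupOf hXH).1 r.1.2, mem_subgroupOf.1 h1⟩
    have h3 := orderOf_dvd_natCard (⟨_, h2⟩ : ↥(centralizer (X : Set G) ⊓ L : Subgroup G))
    obtain ⟨k, hk⟩ := (IsPGroup.iff_orderOf.1 R.2) r
    have h4 : orderOf (⟨_, h2⟩ : ↥(centralizer (X : Set G) ⊓ L : Subgroup G)) = orderOf r :=
      (Subgroup.orderOf_coe (⟨_, h2⟩ : ↥(centralizer (X : Set G) ⊓ L : Subgroup G))).symm.trans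
        ((Subgroup.orderOf_coe r.1.1).trans ((Subgroup.orderOf_coe r.1).trans (Subgroup.orderOf_coe r)))
    rw [h4, hk] at h3
    have h5 : k = 0 := by
      by_contra h5
      have h6 : 2 ∣ 2 ^ k := dvd_pow_self 2 h5
      exact (Nat.not_even_iff_odd.2 hodd) (even_iff_two_dvd.2 (h6.trans h3))
    rw [h5, pow_zero] at hk
    exact orderOf_eq_one_iff.1 hk
  exact isCyclic_of_injective f hf

end Sub

/-- **the standard case** -/
theorem std_case (T : OrderTable.{u}) (hI : InnerThm.{u}) (hSz : OutSz.{u}) {G : Type u} [Group G] [Finite G]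
    (hO : oddCore G = ⊥) {X : Subgroup G} (hX : IsStandardSubgroup X) (hn : ¬ X.Normal) (hty : Ty ↥X)
    (hB : IsBenderGroup (↥X ⧸ center ↥X)) :
    Nonempty (↥(layer G) ≃* ↥X × ↥X) ∨ Concl ↥X ↥(layer G) := by
  obtain ⟨t, htX, ht⟩ := exists_invol hX.2.1.1
  rcases Cfsg.Agent.StdSz.Reduce.prod_or_simple hX hn hO ht htX with h | S
  · exact Or.inl h
  right
  have s := Sit.of_simple S ht htX
  have hsL := s.simple
  have hnL := s.normal
  by_cases hodd : Odd (Nat.card ↥(centralizer (X : Set G) ⊓ layer G : Subgroup G))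
  · have htL : t ∉ layer G := by
      intro h
      have h1 := orderOf_dvd_natCard (⟨t, htX, h⟩ : ↥(centralizer (X : Set G) ⊓ layer G : Subgroup G))
      rw [← Subgroup.orderOf_coe] at h1
      have h2 : 2 ∣ Nat.card ↥(centralizer (X : Set G) ⊓ layer G : Subgroup G) := by
        have h3 : orderOf ((⟨t, htX, h⟩ : ↥(centralizer (X : Set G) ⊓ layer G : Subgroup G)) : G) = 2 := ht
        rwa [h3] at h1
      exact (Nat.not_even_iff_odd.2 hodd) (even_iff_two_dvd.2 h2)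
    have s' := s.sub
    have hLH : layer G ≤ layer G ⊔ zpowers t := le_sup_left
    have eL : ↥((layer G).subgroupOf (layer G ⊔ zpowers t)) ≃* ↥(layer G) := subgroupOfEquivOfLe hLH
    have eX : ↥(X.subgroupOf (layer G ⊔ zpowers t)) ≃* ↥X := subgroupOfEquivOfLe (s.le.trans hLH)
    have hlay : layer ↥(layer G ⊔ zpowers t) = (layer G).subgroupOf (layer G ⊔ zpowers t) :=
      UThreeInner.layer_eq s'.normal s'.simple s'.not_comm s'.cent
    have hev : ¬ Odd (Nat.card ↥((layer G).subgroupOf (layer G ⊔ zpowers t))) := by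
      rw [Nat.card_congr eL.toEquiv]
      have h1 := even_of_quasisimple hX.1
      intro h2
      exact (Nat.not_even_iff_odd.2 (Odd.of_dvd_nat h2 (card_dvd_of_le s.le))) h1
    have hO' : oddCore ↥(layer G ⊔ zpowers t) = ⊥ := UThreeInner.oddCore_eq s'.normal s'.simple hev s'.cent
    have hR := cyc_sub s hodd
    have s'' : Sit (layer ↥(layer G ⊔ zpowers t)) (X.subgroupOf (layer G ⊔ zpowers t))
        (⟨t, mem_Lt (layer G) t⟩ : ↥(layer G ⊔ zpowers t)) := by rw [hlay]; exact s'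
    have hty' : Ty ↥(X.subgroupOf (layer G ⊔ zpowers t)) := hty.congr eX.symm
    have eL' : ↥(layer ↥(layer G ⊔ zpowers t)) ≃* ↥(layer G) := (MulEquiv.subgroupCongr hlay).trans eL
    rcases cyc_concl s'' hO' hR hty' with h | ⟨h, -⟩
    · exact h.congr eX eL'
    · refine (lie2_concl T hSz s'' h ?_ hty').congr eX eL'
      rw [hlay, mem_subgroupOf]
      exact htL
  · rw [Nat.not_odd_iff_even] at hodd
    obtain ⟨y, hy, hy2⟩ := exists_invol hodd
    have hst := std_subgroupOf s.le hX hy2 hy.1 hy.2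
    have := hI ↥(layer G) (X.subgroupOf (layer G)) hst (hty.congr s.eqX.symm) (bender_congr (qcongr s.eqX.symm) hB)
    exact this.congr s.eqX (MulEquiv.refl _)

end Cfsg.Agent.H337.Bend
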