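import Mathlib
import Cfsg.Agent.H337.Bend.CommSimple
import Cfsg.Agent.H337.Bend.Std
import Cfsg.Agent.OddHalf.D3.Inst
import Cfsg.Agent.FixBN.BCoreFree
import Cfsg.Agent.S1322

/-!
# S3145: `X` commutes with a conjugate (helper337)
-/

set_option autoImplicit false

namespace Cfsg.Agent.H337.Bend

open Subgroup Cfsg Cfsg.Agent.OrdDiv Cfsg.Agent.SignalizersComponents

universe u v

variable {G : Type u} [Group G] [Finite G]

/-- conjugate -/
abbrev cj (g : G) (X : Subgroup G) : Subgroup G := X.map (MulAut.conj g).toMonoidHom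

theorem mem_cj {g x : G} {X : Subgroup G} : x ∈ cj g X ↔ g⁻¹ * x * g ∈ X := by
  rw [mem_map_equiv, MulAut.conj_symm_apply]

theorem centralizer_cj (g : G) (X : Subgroup G) : centralizer (cj g X : Set G) = cj g (centralizer (X : Set G)) := by
  ext y
  rw [mem_cj, mem_centralizer_iff, mem_centralizer_iff]
  constructor
  · intro h x hx
    have h1 := h (g * x * g⁻¹) (mem_cj.2 (by
      have e : g⁻¹ * (g * x * g⁻¹) * g = x := by group
      rwa [e]))
    calc x * (g⁻¹ * y * g) = g⁻¹ * (g * x * g⁻¹ * y) * g := by group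
      _ = g⁻¹ * (y * (g * x * g⁻¹)) * g := by rw [h1]
      _ = g⁻¹ * y * g * x := by group
  · intro h x hx
    have h1 := h _ (mem_cj.1 hx)
    calc x * y = g * (g⁻¹ * x * g * (g⁻¹ * y * g)) * g⁻¹ := by group
      _ = g * (g⁻¹ * y * g * (g⁻¹ * x * g)) * g⁻¹ := by rw [h1]
      _ = y * x := by group

theorem cj_eq_of_mem {g : G} {X : Subgroup G} (h : g ∈ normalizer (X : Set G)) : cj g X = X := by
  ext x
  rw [mem_cj]
  exact (mem_normalizer_iff''.1 h x).symm

theorem normalizer_cj (g : G) (X : Subgroup G) {n : G} (h : g⁻¹ * n * g ∈ normalizer (X : Set G)) :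
    n ∈ normalizer (cj g X : Set G) := by
  rw [mem_normalizer_iff]
  intro x
  rw [mem_cj, mem_cj]
  have h1 := mem_normalizer_iff.1 h (g⁻¹ * x * g)
  have e : g⁻¹ * n * g * (g⁻¹ * x * g) * (g⁻¹ * n * g)⁻¹ = g⁻¹ * (n * x * n⁻¹) * g := by group
  rw [e] at h1
  exact h1

/-- tight embedding: centralizers of involutions -/
theorem tight_le {Y : Subgroup G} (hT : IsTightlyEmbedded Y) {y : G} (hy : y ∈ Y) (h2 : orderOf y = 2) :
    centralizer ({y} : Set G) ≤ normalizer (Y : Set G) := by
  intro c hc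
  by_contra hcon
  have h1 := hT.2 c hcon
  have h3 : y ∈ Y ⊓ cj c Y := by
    refine ⟨hy, mem_cj.2 ?_⟩
    have h4 := mem_centralizer_singleton_iff.1 hc
    have e : c⁻¹ * y * c = y := by
      calc c⁻¹ * y * c = c⁻¹ * (y * c) := by group
        _ = c⁻¹ * (c * y) := by rw [h4]
        _ = y := by group
    rwa [e]
  have h4 := orderOf_dvd_natCard (⟨y, h3⟩ : ↥(Y ⊓ cj c Y : Subgroup G))
  rw [← Subgroup.orderOf_coe] at h4
  have h5 : orderOf ((⟨y, h3⟩ : ↥(Y ⊓ cj c Y : Subgroup G)) : G) = 2 := h2
  rw [h5] at h4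
  exact (Nat.not_even_iff_odd.2 h1) (even_iff_two_dvd.2 h4)

theorem odd_le {A B : Subgroup G} (h : A ≤ B) (hB : Odd (Nat.card ↥B)) : Odd (Nat.card ↥A) :=
  Odd.of_dvd_nat hB (card_dvd_of_le h)

theorem not_even_odd {A : Subgroup G} (hA : IsQuasisimple ↥A) (h : Odd (Nat.card ↥A)) : False :=
  (Nat.not_even_iff_odd.2 h) (even_of_quasisimple hA)

theorem odd_normal (hO : oddCore G = ⊥) {N : Subgroup G} (hN : N.Normal) (h : Odd (Nat.card ↥N)) : N = ⊥ := by
  have h1 : N ≤ oddCore G := Cfsg.Agent.Lib.Cores.le_pPrimeCore hN (Nat.coprime_two_right.2 h)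
  rwa [hO, le_bot_iff] at h1

/-- the hypotheses -/
structure Cm (X : Subgroup G) (g : G) : Prop where
  hO : oddCore G = ⊥
  qs : IsQuasisimple ↥X
  tight : IsTightlyEmbedded (centralizer (X : Set G))
  norm : normalizer (X : Set G) = normalizer (centralizer (X : Set G) : Set G)
  ne : cj g X ≠ X
  comm : ⁅X, cj g X⁆ = ⊥

namespace Cm

variable {X : Subgroup G} {g : G}

theorem le' (c : Cm X g) : cj g X ≤ centralizer (X : Set G) := by
  have h := c.comm
  rw [commutator_comm, commutator_eq_bot_iff_le_centralizer] at h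
  exact h

theorem le (c : Cm X g) : X ≤ centralizer (cj g X : Set G) :=
  commutator_eq_bot_iff_le_centralizer.1 c.comm

theorem not_mem (c : Cm X g) : g ∉ normalizer (X : Set G) := fun h => c.ne (cj_eq_of_mem h)

/-- `Y ∩ Y'` has odd order -/
theorem odd (c : Cm X g) : Odd (Nat.card ↥(centralizer (X : Set G) ⊓ centralizer (cj g X : Set G) : Subgroup G)) := by
  rw [centralizer_cj]
  refine c.tight.2 g ?_
  rw [← c.norm]
  exact c.not_mem

theorem cent_le (c : Cm X g) {y : G} (hy : y ∈ centralizer (X : Set G)) (h2 : orderOf y = 2) :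
    centralizer ({y} : Set G) ≤ normalizer (X : Set G) := by
  rw [c.norm]
  exact tight_le c.tight hy h2

theorem cent_le' (c : Cm X g) {y : G} (hy : y ∈ centralizer (cj g X : Set G)) (h2 : orderOf y = 2) :
    centralizer ({y} : Set G) ≤ normalizer (cj g X : Set G) := by
  intro n hn
  apply normalizer_cj
  rw [centralizer_cj, mem_cj] at hy
  have h3 : orderOf (g⁻¹ * y * g) = 2 := by
    have h4 : orderOf ((MulAut.conj g⁻¹) y) = orderOf y := MulEquiv.orderOf_eq _ _
    rw [MulAut.conj_apply, inv_inv] at h4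
    rw [h4, h2]
  refine c.cent_le hy h3 ?_
  rw [mem_centralizer_singleton_iff] at hn ⊢
  calc g⁻¹ * n * g * (g⁻¹ * y * g) = g⁻¹ * (n * y) * g := by group
    _ = g⁻¹ * (y * n) * g := by rw [hn]
    _ = g⁻¹ * y * g * (g⁻¹ * n * g) := by group

noncomputable def eq (_ : Cm X g) : ↥X ≃* ↥(cj g X) := X.equivMapOfInjective _ (MulAut.conj g).injective

theorem qs' (c : Cm X g) : IsQuasisimple ↥(cj g X) := Cfsg.Agent.S1260.isQuasisimple_of_mulEquiv c.eq c.qs

theorem pLayer_eq (c : Cm X g) : pLayer 2 G = layer G := by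
  apply Cfsg.Agent.FixBN.BCoreFree.pLayer_eq_layer (fun N hN => Cfsg.Agent.S0205.result hN)
  rw [c.hO, commutator_bot_right]

/-- a quasisimple subgroup normalised by the centralizer of an involution commuting with it is a component -/
theorem comp_of {A : Subgroup G} (hq : IsQuasisimple ↥A) {y : G} (hy : y ∈ centralizer (A : Set G))
    (hn : centralizer ({y} : Set G) ≤ normalizer (A : Set G)) :
    A ≤ centralizer ({y} : Set G) ∧ IsComponent (A.subgroupOf (centralizer ({y} : Set G))) := by
  have hle : A ≤ centralizer ({y} : Set G) := by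
    intro x hx
    rw [mem_centralizer_singleton_iff]
    exact mem_centralizer_iff.1 hy x hx
  refine ⟨hle, ?_, Cfsg.Agent.S1260.isQuasisimple_of_mulEquiv (subgroupOfEquivOfLe hle).symm hq⟩
  refine (show (A.subgroupOf (centralizer ({y} : Set G))).Normal from ⟨fun x hx k => ?_⟩).isSubnormal
  rw [mem_subgroupOf] at hx ⊢
  exact (mem_normalizer_iff.1 (hn k.2) x).1 hx

theorem le_layer (c : Cm X g) : X ≤ layer G := by
  obtain ⟨t, htX, ht⟩ := exists_invol (even_of_quasisimple c.qs')
  have h := comp_of c.qs (c.le' htX) (c.cent_le (c.le' htX) ht)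
  exact Cfsg.Agent.OddHalf.D3.le_layer c.pLayer_eq ht ⟨h.1, h.2⟩ (even_of_quasisimple c.qs).two_dvd

theorem le_layer' (c : Cm X g) : cj g X ≤ layer G := by
  obtain ⟨t, htX, ht⟩ := exists_invol (even_of_quasisimple c.qs)
  have h := comp_of c.qs' (c.le htX) (c.cent_le' (c.le htX) ht)
  exact Cfsg.Agent.OddHalf.D3.le_layer c.pLayer_eq ht ⟨h.1, h.2⟩ (even_of_quasisimple c.qs').two_dvd

/-- `X` is a component or contained in a component `D = [D, t]` -/
theorem cases (c : Cm X g) : IsComponent X ∨ ∃ D : Subgroup G, IsComponent D ∧ X ≤ D ∧ cj g X ≤ D := by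
  obtain ⟨t, htX, ht⟩ := exists_invol (even_of_quasisimple c.qs')
  have h := comp_of c.qs (c.le' htX) (c.cent_le (c.le' htX) ht)
  obtain ⟨D, hD, h1⟩ := Cfsg.Agent.S1322.result c.pLayer_eq t ht X h.1 h.2
  rcases h1 with h1 | ⟨h1, h2⟩ | ⟨h1, -⟩
  · left
    rw [h1]
    exact hD
  · right
    refine ⟨D, hD, h1.le, ?_⟩
    have hD' : IsComponent (cj g D) := Components.isComponent_conj g hD
    have hXD' : cj g X ≤ cj g D := map_mono h1.le
    by_cases he : cj g D = D
    · rwa [he] at hXD'
    · exfalso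
      have h3 := Components.component_le_centralizer_of_ne hD hD' (Ne.symm he)
      have h4 : t ∈ centralizer (D : Set G) := by
        rw [mem_centralizer_iff]
        intro d hd
        exact (mem_centralizer_iff.1 (h3 hd) t (hXD' htX)).symm
      have h5 : ⁅D, zpowers t⁆ = ⊥ := by
        rw [commutator_comm, commutator_eq_bot_iff_le_centralizer, zpowers_le]
        exact h4
      rw [h5] at h2
      have h6 := UThreeInner.nontriv_of_qs hD.2
      rw [h2] at h6
      exact not_nontrivial _ h6
  · exfalso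
    apply h1
    exact cj_eq_of_mem (Components.layer_le_normalizer_component hD (c.le_layer' htX))

/-- the components of `G` -/
theorem comp_cases (c : Cm X g) {K : Subgroup G} (hK : IsComponent K) (h1 : K ≤ centralizer (X : Set G))
    (h2 : K ≤ centralizer (cj g X : Set G)) : False :=
  not_even_odd hK.2 (odd_le (le_inf h1 h2) c.odd)

/-- **`X` is a component** -/
theorem of_comp (c : Cm X g) (hX : IsComponent X) : Nonempty (↥(layer G) ≃* ↥X × ↥X) := by
  have hX' : IsComponent (cj g X) := Components.isComponent_conj g hX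
  have key : ∀ K : Subgroup G, IsComponent K → K = X ∨ K = cj g X := by
    intro K hK
    by_contra hcon
    push Not at hcon
    exact c.comp_cases hK (Components.component_le_centralizer_of_ne hK hX hcon.1)
      (Components.component_le_centralizer_of_ne hK hX' hcon.2)
  have hlay : layer G = X ⊔ cj g X := by
    apply le_antisymm
    · refine sSup_le ?_
      intro K hK
      rcases key K hK with h | h
      · exact h.le.trans le_sup_left
      · exact h.le.trans le_sup_right
    · exact sup_le c.le_layer c.le_layer'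
  have hnI : (X ⊓ cj g X).Normal := by
    refine ⟨fun n hn h => ?_⟩
    have h1 := key (cj h X) (Components.isComponent_conj h hX)
    have h2 := key (cj h (cj g X)) (Components.isComponent_conj h hX')
    have h3 : cj h X ≠ cj h (cj g X) := by
      intro he
      exact c.ne (map_injective (MulAut.conj h).injective he).symm
    have hn1 : h * n * h⁻¹ ∈ cj h X := mem_cj.2 (by
      have e : h⁻¹ * (h * n * h⁻¹) * h = n := by group
      rw [e]
      exact hn.1)
    have hn2 : h * n * h⁻¹ ∈ cj h (cj g X) := mem_cj.2 (by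
      have e : h⁻¹ * (h * n * h⁻¹) * h = n := by group
      rw [e]
      exact hn.2)
    rcases h1 with h1 | h1 <;> rcases h2 with h2 | h2
    · exact (h3 (h1.trans h2.symm)).elim
    · exact ⟨h1 ▸ hn1, h2 ▸ hn2⟩
    · exact ⟨h2 ▸ hn2, h1 ▸ hn1⟩
    · exact (h3 (h1.trans h2.symm)).elim
  have hI : X ⊓ cj g X = ⊥ := by
    refine odd_normal c.hO hnI (odd_le ?_ c.odd)
    exact le_inf (inf_le_right.trans c.le') (inf_le_left.trans c.le)
  obtain ⟨f⟩ := Cfsg.Agent.StdSz.Reduce.nonempty_sup_mulEquiv_prod (X := X) (Y := cj g X)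
    (fun a ha b hb => (mem_centralizer_iff.1 (c.le' hb) a ha)) hI
  exact ⟨(MulEquiv.subgroupCongr hlay).trans (f.trans ((MulEquiv.refl _).prodCongr c.eq.symm))⟩

/-- **`X` is contained in a component** -/
theorem of_le (c : Cm X g) (T : OrderTable.{u}) (h0 : ∀ (X : Type u) [Group X] [Finite X] [IsSimpleGroup X], IsKnownSimple' X)
    (hR : RankThm.{u}) (hty : Ty ↥X) {D : Subgroup G} (hD : IsComponent D) (h1 : X ≤ D) (h2 : cj g X ≤ D) : False := by
  have key : ∀ K : Subgroup G, IsComponent K → K = D := by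
    intro K hK
    by_contra hcon
    have h3 := Components.component_le_centralizer_of_ne hK hD hcon
    exact c.comp_cases hK (h3.trans (centralizer_le h1)) (h3.trans (centralizer_le h2))
  have hDn : D.Normal := by
    refine ⟨fun n hn h => ?_⟩
    have h3 := key (cj h D) (Components.isComponent_conj h hD)
    rw [← h3, mem_cj]
    have e : h⁻¹ * (h * n * h⁻¹) * h = n := by group
    rwa [e]
  have hc : centralizer (D : Set G) = ⊥ := by
    have : (centralizer (D : Set G)).Normal := inferInstance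
    refine odd_normal c.hO this (odd_le ?_ c.odd)
    exact le_inf (centralizer_le h1) (centralizer_le h2)
  have hcD : center ↥D = ⊥ := by
    rw [eq_bot_iff]
    intro x hx
    have h3 : (x : G) ∈ centralizer (D : Set G) := by
      rw [mem_centralizer_iff]
      intro y hy
      exact congrArg Subtype.val (mem_center_iff.1 hx ⟨y, hy⟩)
    rw [hc, mem_bot] at h3
    exact mem_bot.2 (Subtype.ext h3)
  have hDs : IsSimpleGroup ↥D := by
    have h3 := hD.2.2
    have e : (↥D ⧸ center ↥D) ≃* ↥D := (QuotientGroup.quotientMulEquivOfEq hcD).trans QuotientGroup.quotientBot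
    exact (MulEquiv.isSimpleGroup_congr e).1 h3
  have eX : ↥(X.subgroupOf D) ≃* ↥X := subgroupOfEquivOfLe h1
  have eX' : ↥((cj g X).subgroupOf D) ≃* ↥(cj g X) := subgroupOfEquivOfLe h2
  have hcen : ∀ {A : Subgroup G}, A ≤ D → ∀ {y : ↥D}, y ∈ centralizer ((A.subgroupOf D : Subgroup ↥D) : Set ↥D) →
      (y : G) ∈ centralizer (A : Set G) := by
    intro A hA y hy
    rw [mem_centralizer_iff]
    intro a ha
    exact congrArg Subtype.val (mem_centralizer_iff.1 hy ⟨a, hA ha⟩ (mem_subgroupOf.2 ha))
  have hnor : ∀ {A : Subgroup G}, (∀ y ∈ centralizer (A : Set G), orderOf y = 2 → centralizer ({y} : Set G) ≤ normalizer (A : Set G)) →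
      A ≤ D → ∀ y ∈ centralizer ((A.subgroupOf D : Subgroup ↥D) : Set ↥D), orderOf y = 2 →
        centralizer ({y} : Set ↥D) ≤ normalizer ((A.subgroupOf D : Subgroup ↥D) : Set ↥D) := by
    intro A hn hA y hy hy2 k hk
    have h3 : (k : G) ∈ normalizer (A : Set G) := by
      refine hn y (hcen hA hy) (by rw [Subgroup.orderOf_coe]; exact hy2) ?_
      rw [mem_centralizer_singleton_iff] at hk ⊢
      exact congrArg Subtype.val hk
    rw [mem_normalizer_iff]
    intro x
    rw [mem_subgroupOf, mem_subgroupOf]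
    exact mem_normalizer_iff.1 h3 x
  refine comm_false (G := ↥D) T h0 hR (X := X.subgroupOf D) (X' := (cj g X).subgroupOf D)
    (Cfsg.Agent.S1260.isQuasisimple_of_mulEquiv eX.symm c.qs) (hty.congr eX.symm) ((eX.trans c.eq).trans eX'.symm) ?_
    (hnor (fun y hy hy2 => c.cent_le hy hy2) h1) (hnor (fun y hy hy2 => c.cent_le' hy hy2) h2) ?_
  · intro y hy
    rw [mem_centralizer_iff]
    intro x hx
    exact Subtype.ext (mem_centralizer_iff.1 (c.le' (mem_subgroupOf.1 hy)) x (mem_subgroupOf.1 hx))
  · rw [Nat.card_congr (Subgroup.centerCongr eX).toEquiv]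
    have h3 : (center ↥X).map X.subtype ≤ centralizer (X : Set G) ⊓ centralizer (cj g X : Set G) := by
      rintro _ ⟨x, hx, rfl⟩
      refine ⟨?_, c.le x.2⟩
      show (x : G) ∈ centralizer (X : Set G)
      rw [mem_centralizer_iff]
      intro y hy
      exact congrArg Subtype.val (mem_center_iff.1 hx ⟨y, hy⟩)
    have h4 := odd_le h3 c.odd
    rwa [card_map_of_injective (subtype_injective _)] at h4

end Cm

/-- **the commuting case** -/
theorem comm_case (T : OrderTable.{u}) (h0 : ∀ (X : Type u) [Group X] [Finite X] [IsSimpleGroup X], IsKnownSimple' X)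
    (hR : RankThm.{u}) {X : Subgroup G} {g : G} (c : Cm X g) (hty : Ty ↥X) : Nonempty (↥(layer G) ≃* ↥X × ↥X) := by
  rcases c.cases with h | ⟨D, hD, h1, h2⟩
  · exact c.of_comp h
  · exact (c.of_le T h0 hR hty hD h1 h2).elim

end Cfsg.Agent.H337.Bend
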