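import Mathlib
import Cfsg.Agent.H337.Bend.Comm
import Cfsg.Agent.S0283

/-!
# S3145: the assembly (helper337)
-/

set_option autoImplicit false

namespace Cfsg.Agent.H337.Bend

open Subgroup Cfsg Cfsg.Agent.OrdDiv Cfsg.Agent.H284.StdRed

universe u v

theorem oddCore_of_center {K : Type u} [Group K] [Finite K] (hq : IsQuasisimple K) (h : center K = ⊥) : oddCore K = ⊥ := by
  rw [← le_bot_iff, ← h]
  exact oddCore_le_center hq (even_of_quasisimple hq)

theorem oddCore_of_simple {K : Type u} [Group K] [Finite K] (hq : IsQuasisimple K) {Q : Type v} [Group Q] (e : Nonempty (K ≃* Q))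
    (h : IsSimpleGroup Q) : oddCore K = ⊥ := by
  obtain ⟨e⟩ := e
  exact oddCore_of_center hq (center_bot_of_simple hq ((MulEquiv.isSimpleGroup_congr e).2 h))

theorem psl_simple {F : Type v} [Field F] [Fintype F] (h4 : 4 ≤ Fintype.card F) :
    IsSimpleGroup (Matrix.ProjectiveSpecialLinearGroup (Fin 2) F) :=
  Matrix.ProjectiveSpecialLinearGroup.rank_two_simple (by rw [Nat.card_eq_fintype_card]; omega)

theorem four_le {n : ℕ} (hn : 2 ≤ n) : 4 ≤ 2 ^ n := by
  calc 4 = 2 ^ 2 := by norm_num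
    _ ≤ 2 ^ n := Nat.pow_le_pow_right (by norm_num) hn

theorem oddCore_of_concl {K : Type u} [Group K] [Finite K] (hq : IsQuasisimple K) {L : Type v} [Group L] (h : Concl K L) :
    oddCore K = ⊥ := by
  rcases h with ⟨F, i1, i2, n, h1, h2, h3, -⟩ | ⟨F, i1, i2, n, h1, h2, h3, -⟩ | ⟨F, i1, i2, m, h1, h2, h3, -⟩ |
    ⟨F, i1, i2, h1, h2, -⟩ | ⟨F, i1, i2, h1, h2, -⟩ | ⟨F, i1, i2, h1, h2, -⟩
  · exact oddCore_of_simple hq h3 (psl_simple (by rw [h2]; exact four_le h1))
  · have h4 := four_le h1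
    refine oddCore_of_simple hq h3 (Cfsg.Agent.S0283.result (q := 2 ^ n) ?_ 3 le_rfl (by omega))
    rw [h2, ← pow_mul, mul_comm, pow_mul]
    norm_num
  · exact oddCore_of_simple hq h3 (Cfsg.Agent.S1162.result h1 h2)
  · exact oddCore_of_simple hq h2 (psl_simple (by omega))
  · have h3 := Cfsg.Agent.S1162.result (F := F) (m := 1) le_rfl (by rw [h1]; norm_num)
    rw [show (2 : ℕ) ^ (1 + 1) = 4 by norm_num] at h3
    exact oddCore_of_simple hq h2 h3
  · exact oddCore_of_simple hq h2 (psl_simple (by omega))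

/-- `SL₂(5)` -/
theorem oddCore_of_sl {K : Type u} [Group K] [Finite K] (hq : IsQuasisimple K) {F : Type v} [Field F]
    (e : K ≃* Matrix.SpecialLinearGroup (Fin 2) F) : oddCore K = ⊥ := by
  rw [eq_bot_iff]
  intro x hx
  have h1 := oddCore_le_center hq (even_of_quasisimple hq) hx
  have h2 : e x ∈ center (Matrix.SpecialLinearGroup (Fin 2) F) := by
    rw [Subgroup.mem_center_iff]
    intro g
    obtain ⟨y, rfl⟩ := e.surjective g
    rw [← map_mul, ← map_mul, Subgroup.mem_center_iff.1 h1 y]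
  obtain ⟨r, hr, hr2⟩ := Matrix.SpecialLinearGroup.mem_center_iff.1 h2
  have h3 : (e x) ^ 2 = 1 := by
    apply Subtype.ext
    show ((e x : Matrix.SpecialLinearGroup (Fin 2) F) ^ 2 : Matrix.SpecialLinearGroup (Fin 2) F).1 = 1
    rw [Matrix.SpecialLinearGroup.coe_pow, ← hr2, ← map_pow]
    rw [Fintype.card_fin] at hr
    rw [hr, map_one]
  have h4 : x ^ 2 = 1 := by
    rw [← map_pow] at h3
    exact (map_eq_one_iff e e.injective).1 h3
  have h5 := orderOf_dvd_natCard (⟨x, hx⟩ : ↥(oddCore K))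
  rw [← Subgroup.orderOf_coe] at h5
  have h6 : Odd (Nat.card ↥(oddCore K)) := Nat.coprime_two_right.1 (Cfsg.Agent.Lib.Cores.pPrimeCore_coprime 2)
  have h7 : Nat.Coprime (orderOf x) 2 := Nat.Coprime.coprime_dvd_left h5 (Nat.coprime_two_right.2 h6)
  have h8 : orderOf x ∣ 2 := orderOf_dvd_of_pow_eq_one h4
  have h9 : orderOf x = 1 := Nat.Coprime.eq_one_of_dvd h7 h8
  exact mem_bot.2 (orderOf_eq_one_iff.1 h9)

/-- the odd core of a direct factor of the layer -/
theorem oddCore_of_prod {G : Type u} [Group G] [Finite G] (hO : oddCore G = ⊥) {K : Type v} [Group K] [Finite K]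
    (h : Nonempty (↥(layer G) ≃* K × K)) : oddCore K = ⊥ := by
  obtain ⟨e⟩ := h
  have hK : (oddCore K).Normal := Cfsg.Agent.Lib.Cores.pPrimeCore_normal 2
  have h6 : Odd (Nat.card ↥(oddCore K)) := Nat.coprime_two_right.1 (Cfsg.Agent.Lib.Cores.pPrimeCore_coprime 2)
  have h1 : ((oddCore K).prod (⊥ : Subgroup K)).Normal := inferInstance
  have h2 : Odd (Nat.card ↥((oddCore K).prod (⊥ : Subgroup K))) := by
    rw [Nat.card_congr ((oddCore K).prodEquiv (⊥ : Subgroup K)).toEquiv, Nat.card_prod, card_bot, mul_one]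
    exact h6
  have h3 : (oddCore K).prod (⊥ : Subgroup K) ≤ oddCore (K × K) :=
    Cfsg.Agent.Lib.Cores.le_pPrimeCore h1 (Nat.coprime_two_right.2 h2)
  have hL : oddCore ↥(layer G) = ⊥ := by
    have hn : (layer G).Normal := Cfsg.Agent.SignalizersComponents.LayerBasic.layer_normal G
    have hch : (oddCore ↥(layer G)).Characteristic := Cfsg.Agent.Lib.Cores.pPrimeCore_characteristic 2
    have hnn : ((oddCore ↥(layer G)).map (layer G).subtype).Normal := inferInstance
    have h4 : Odd (Nat.card ↥((oddCore ↥(layer G)).map (layer G).subtype)) := by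
      rw [card_map_of_injective (subtype_injective _)]
      exact Nat.coprime_two_right.1 (Cfsg.Agent.Lib.Cores.pPrimeCore_coprime 2)
    have h5 := odd_normal hO hnn h4
    exact (map_eq_bot_iff_of_injective _ (subtype_injective _)).1 h5
  have hKK : oddCore (K × K) = ⊥ := by
    have hn : (oddCore (K × K)).Normal := Cfsg.Agent.Lib.Cores.pPrimeCore_normal 2
    have h4 : ((oddCore (K × K)).map e.symm.toMonoidHom).Normal := hn.map _ e.symm.surjective
    have h5 : Odd (Nat.card ↥((oddCore (K × K)).map e.symm.toMonoidHom)) := by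
      rw [card_map_of_injective e.symm.injective]
      exact Nat.coprime_two_right.1 (Cfsg.Agent.Lib.Cores.pPrimeCore_coprime 2)
    have h7 : (oddCore (K × K)).map e.symm.toMonoidHom ≤ oddCore ↥(layer G) :=
      Cfsg.Agent.Lib.Cores.le_pPrimeCore h4 (Nat.coprime_two_right.2 h5)
    rw [hL, le_bot_iff] at h7
    exact (map_eq_bot_iff_of_injective _ e.symm.injective).1 h7
  rw [eq_bot_iff]
  intro x hx
  have h7 : ((x, 1) : K × K) ∈ oddCore (K × K) := h3 ⟨hx, one_mem _⟩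
  rw [hKK, mem_bot] at h7
  exact mem_bot.2 (congrArg Prod.fst h7)

/-- **The theorem.** -/
theorem main (T : OrderTable.{u}) (h0 : ∀ (X : Type u) [Group X] [Finite X] [IsSimpleGroup X], IsKnownSimple' X)
    (hSL : SLFive.{u}) (hQ : Quat.{u}) (hQs : QuatSz.{u}) (hL : RkL.{u}) (hU : RkU.{u}) (hS : RkSz.{u}) (hC : RkCov.{u})
    (hSz : OutSz.{u}) {G : Type u} [Group G] [Finite G] (hO : oddCore G = ⊥) (X Y : Subgroup G)
    (hq : IsQuasisimple ↥X)
    (hB : IsBenderGroup ((↥X ⧸ oddCore ↥X) ⧸ center (↥X ⧸ oddCore ↥X)))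
    (hY : ∀ g : G, g ∈ Y ↔ ∀ x ∈ X, g * x * g⁻¹ * x⁻¹ ∈ (oddCore ↥X).map X.subtype)
    (hT : IsTightlyEmbedded Y) (hN : normalizer (X : Set G) = normalizer (Y : Set G))
    (hn : ¬ X.Normal) :
    oddCore ↥X = ⊥ ∧ (Nonempty (↥(layer G) ≃* ↥X × ↥X) ∨ Concl ↥X ↥(layer G) ∨
      (∃ (F : Type) (_ : Field F) (_ : Fintype F), Fintype.card F = 5 ∧ Nonempty (↥X ≃* Matrix.SpecialLinearGroup (Fin 2) F) ∧
        SectionalPRankLE 2 4 G)) := by
  have he := even_of_quasisimple hq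
  obtain rfl : Y = centralizer (X : Set G) := eq_centralizer hq he hY
  have hOn : (oddCore ↥X).Normal := Cfsg.Agent.Lib.Cores.pPrimeCore_normal 2
  obtain ⟨eq⟩ := exists_quot_equiv hq (oddCore_le_center hq he)
  have hB' : IsBenderGroup (↥X ⧸ center ↥X) := bender_congr eq hB
  have fin : Ty ↥X → oddCore ↥X = ⊥ ∧ (Nonempty (↥(layer G) ≃* ↥X × ↥X) ∨ Concl ↥X ↥(layer G) ∨
      (∃ (F : Type) (_ : Field F) (_ : Fintype F), Fintype.card F = 5 ∧ Nonempty (↥X ≃* Matrix.SpecialLinearGroup (Fin 2) F) ∧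
        SectionalPRankLE 2 4 G)) := by
    intro hty
    have hR : RankThm.{u} := rankThm hL hU hS hC
    have hI : InnerThm.{u} := innerThm hQ hQs hL hU hS hC
    by_cases hc : ∀ g : G, cj g X ≠ X → ⁅X, cj g X⁆ ≠ ⊥
    · have hst : IsStandardSubgroup X := ⟨hq, hT, hc, hN⟩
      rcases std_case T hI hSz hO hst hn hty hB' with h | h
      · exact ⟨oddCore_of_prod hO h, Or.inl h⟩
      · exact ⟨oddCore_of_concl hq h, Or.inr (Or.inl h)⟩
    · push Not at hc
      obtain ⟨g, h1, h2⟩ := hc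
      have h := comm_case T h0 hR (⟨hO, hq, hT, hN, h1, h2⟩ : Cm X g) hty
      exact ⟨oddCore_of_prod hO h, Or.inl h⟩
  rcases types hq hB' with h | ⟨F, i1, i2, hF, ⟨e⟩⟩ | h | h
  · exact fin (Or.inl h)
  · exact ⟨oddCore_of_sl hq e, Or.inr (Or.inr ⟨F, i1, i2, hF, ⟨e⟩, hSL G hO X ⟨F, i1, i2, hF, ⟨e⟩⟩ hT hN hn⟩)⟩
  · exact fin (Or.inr (Or.inl h))
  · exact fin (Or.inr (Or.inr h))

end Cfsg.Agent.H337.Bend
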