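import Mathlib
import Cfsg.Agent.OddHalf.D4.Sz.Front
import Cfsg.Agent.OddHalf.D4.Sz.End
import Cfsg.Agent.OddHalf.D4.Final.Given
import Cfsg.Agent.OddHalf.D4.Rk2.RowFull
import Cfsg.Agent.StdSz.OutLie
import Cfsg.Agent.S1170
import Cfsg.Agent.S1162
import Cfsg.Agent.S1163
import Cfsg.Agent.ThreePrime.Main
import Cfsg.Agent.H337.Bend.Iface2

/-!
# S3145, piece RkSz: no standard subgroup `Sz(q)`, `q ≥ 32`, with `m₂(C(K)) ≥ 2` in a simple group
-/

set_option autoImplicit false

namespace Cfsg.Agent.H337.Bend.RkSzPf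

open Subgroup Cfsg Cfsg.Agent.OddHalf.D4 Cfsg.Agent.OddHalf.D4.Basic Cfsg.Agent.OddHalf.D4.Sz
open Cfsg.Agent.OddHalf

universe u

/-- a group of characteristic 2 type has no standard subgroup which is simple -/
theorem not_charTwo {G : Type u} [Group G] [Finite G] {K : Subgroup G} (hK : IsStandardSubgroup K)
    (hs : IsSimpleGroup ↥K) {t : G} (ht : t ∈ centralizer (K : Set G)) (ht2 : orderOf t = 2)
    (hG : IsCharacteristicTwoType G) : False := by
  have : Fact (Nat.Prime 2) := ⟨Nat.prime_two⟩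
  have tight : TightAt K := EvenPair.tight_of_standard hK
  have hc2 := hG.2 (zpowers t) (by
    rw [IsPGroup.iff_card]; exact ⟨1, by rw [Nat.card_zpowers, ht2]; norm_num⟩) (by
    rw [Ne, zpowers_eq_bot]; rintro rfl; rw [orderOf_one] at ht2; exact absurd ht2 (by norm_num))
  set N : Subgroup G := normalizer ((zpowers t : Subgroup G) : Set G) with hN
  -- elements of `N` centralize `t`
  have hNc : ∀ n ∈ N, n * t = t * n := by
    intro n hn
    have h1 : n * t * n⁻¹ ∈ zpowers t := (mem_normalizer_iff.mp hn t).mp (mem_zpowers t)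
    have h2 : orderOf (n * t * n⁻¹) = 2 := by rw [Basic.orderOf_conj]; exact ht2
    obtain ⟨k, hk⟩ := mem_zpowers_iff.mp h1
    rcases Int.even_or_odd k with ⟨j, hj⟩ | ⟨j, hj⟩
    · exfalso
      rw [hj, ← two_mul, zpow_mul, zpow_ofNat, ← ht2, pow_orderOf_eq_one, one_zpow] at hk
      rw [← hk, orderOf_one] at h2
      exact absurd h2 (by norm_num)
    · rw [hj, zpow_add, zpow_mul, zpow_ofNat, ← ht2, pow_orderOf_eq_one, one_zpow, one_mul, zpow_one] at hk
      calc n * t = n * t * n⁻¹ * n := by group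
        _ = t * n := by rw [← hk]
  have hKN : K ≤ N := by
    intro k hk
    have h1 : k * t = t * k := mem_centralizer_iff.mp ht k hk
    rw [hN, mem_normalizer_iff]
    have h2 : ∀ n : ℤ, k * t ^ n * k⁻¹ = t ^ n := by
      intro n
      have h4 : Commute k (t ^ n) := Commute.zpow_right h1 n
      rw [h4.eq]; group
    intro x
    constructor
    · rintro ⟨n, rfl⟩
      exact ⟨n, (h2 n).symm⟩
    · rintro ⟨n, hn⟩
      refine ⟨n, ?_⟩
      have h5 : k * x * k⁻¹ = k * t ^ n * k⁻¹ := by rw [h2 n]; exact hn.symm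
      exact (mul_left_cancel (mul_right_cancel h5)).symm
  have hNK : N ≤ normalizer (K : Set G) := by
    intro n hn
    exact tight.mem ht ht2 (hNc n hn)
  set K' : Subgroup ↥N := K.subgroupOf N with hK'
  have hK'n : K'.Normal := by
    constructor
    intro k hk n
    rw [hK', mem_subgroupOf] at hk ⊢
    exact (mem_normalizer_iff.mp (hNK n.2) k).mp hk
  have hOn : (pCore 2 ↥N).Normal := inferInstance
  have he : ↥K' ≃* ↥K := subgroupOfEquivOfLe hKN
  have hs' : IsSimpleGroup ↥K' := he.isSimpleGroup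
  have hna : ¬ IsPGroup 2 ↥K' := by
    intro h
    have h1 : IsPGroup 2 ↥K := h.of_equiv he
    have : Nontrivial ↥K := hs.toNontrivial
    have h2 := h1.center_nontrivial
    have h3 : center ↥K = ⊤ := by
      rcases (inferInstance : (center ↥K).Normal).eq_bot_or_eq_top with h4 | h4
      · rw [h4] at h2
        exact absurd h2 (not_nontrivial_iff_subsingleton.mpr inferInstance)
      · exact h4
    have h4 : ⁅(⊤ : Subgroup ↥K), (⊤ : Subgroup ↥K)⁆ = ⊤ := hK.1.1.commutator_eq_top
    have h5 : ⁅(⊤ : Subgroup ↥K), (⊤ : Subgroup ↥K)⁆ = ⊥ := by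
      rw [commutator_eq_bot_iff_le_centralizer]
      intro x _
      rw [mem_centralizer_iff]
      intro y _
      have hx : x ∈ center ↥K := by rw [h3]; exact mem_top x
      exact (mem_center_iff.mp hx y)
    rw [h4] at h5
    exact absurd h5 top_ne_bot
  have hinf : K' ⊓ pCore 2 ↥N = ⊥ := by
    have h1 : ((pCore 2 ↥N).subgroupOf K').Normal := inferInstance
    rcases h1.eq_bot_or_eq_top with h2 | h2
    · rw [subgroupOf_eq_bot] at h2
      rw [inf_comm]
      exact h2.eq_bot
    · rw [subgroupOf_eq_top] at h2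
      exact absurd ((Cfsg.Agent.Lib.Cores.pCore_isPGroup 2).to_le h2) hna
  have hle : K' ≤ centralizer (pCore 2 ↥N : Set ↥N) := by
    intro k hk
    rw [mem_centralizer_iff]
    intro o ho
    exact commute_of_normal_of_disjoint _ _ hOn hK'n (by rw [disjoint_iff, inf_comm]; exact hinf) o k ho hk
  have h1 : K' ≤ K' ⊓ pCore 2 ↥N := le_inf le_rfl (hle.trans hc2)
  rw [hinf, le_bot_iff] at h1
  have h2 : Nontrivial ↥K' := hs'.toNontrivial
  rw [h1] at h2
  exact absurd h2 (not_nontrivial_iff_subsingleton.mpr inferInstance)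

/-- **S3145, piece RkSz** -/
theorem rkSz : Cfsg.Agent.H337.Bend.RkSz.{u} := by
  intro G _ _ hG K hK F _ _ m hm hF he hrk
  obtain ⟨e⟩ := he
  have : Fact (Nat.Prime 2) := ⟨Nat.prime_two⟩
  obtain ⟨x, y, hx, hy, hx2, hy2, hxy, hne⟩ := EvenPair.exists_two_of_not_pRankLE hrk
  have hperf : ⁅(⊤ : Subgroup ↥K), (⊤ : Subgroup ↥K)⁆ = ⊤ := hK.1.1.commutator_eq_top
  have hKs : IsSimpleGroup ↥K := by
    have h1 : IsSimpleGroup ↥(Cfsg.Lie.Sz F (2 ^ (m + 1))) := S1162.result (by omega) hF
    exact e.isSimpleGroup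
  -- `16 ∣ |G|`
  have hq : 16 ∣ Nat.card ↥K := by
    rw [Nat.card_congr e.toEquiv, (S1163.result (by omega) hF).1, mul_assoc]
    refine dvd_mul_of_dvd_left ?_ _
    rw [← pow_mul]
    exact pow_dvd_pow 2 (by omega : 4 ≤ (2 * m + 1) * 2)
  have h16 : 16 ∣ Nat.card G := hq.trans (card_subgroup_dvd_card K)
  have hna : ∃ a b : G, a * b ≠ b * a := by
    by_contra hcon
    push Not at hcon
    have h5 : ⁅(⊤ : Subgroup ↥K), (⊤ : Subgroup ↥K)⁆ = ⊥ := by
      rw [commutator_eq_bot_iff_le_centralizer]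
      intro x _
      rw [mem_centralizer_iff]
      intro y _
      exact Subtype.ext (hcon y x)
    rw [hperf] at h5
    have : Nontrivial ↥K := hKs.toNontrivial
    exact absurd h5 top_ne_bot
  -- no subgroup of index two
  have hidx : ∀ H : Subgroup G, H.index ≠ 2 := by
    intro H h
    have hn : H.Normal := normal_of_index_eq_two h
    rcases hn.eq_bot_or_eq_top with h1 | h1
    · rw [h1, index_bot] at h
      rw [h] at h16
      omega
    · rw [h1, index_top] at h
      omega
  -- no Sylow subgroup of class two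
  have hcl : NoClassTwo G := by
    intro S hnab hc2
    have key : ¬ IsCharacteristicTwoType G := not_charTwo hK hKs hx hx2
    rcases S1170.result S (S : Subgroup G) ⟨le_rfl, fun _ _ _ h => h⟩ (by
        rintro ⟨⟨h⟩⟩
        obtain ⟨a, ha, b, hb, hab⟩ := hnab
        exact hab (congrArg Subtype.val (h ⟨a, ha⟩ ⟨b, hb⟩))) (by
        rw [Subgroup.commutator_le]
        intro x _ y _
        rw [mem_center_iff]
        intro z
        exact Subtype.ext (hc2 x x.2 y y.2 z z.2).symm) with h | h | h | h | h | h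
    · obtain ⟨K1, _, _, hK1, ⟨e1⟩⟩ := h
      refine Cfsg.Agent.StdU3.EndLie.not_sixteen_dvd_psl hK1 ?_
      rw [← Nat.card_congr e1.toEquiv]
      exact h16
    · obtain ⟨K1, _, _, q, hK1, hq1, hq4, he⟩ := h
      obtain ⟨n, hn, rfl⟩ := Sz.Kill1170.exists_pow hK1 hq1 hq4
      exact key (Small.RankOne.u3 K1 n hn hK1 he)
    · have h3 := Cfsg.Agent.StdU3.EndLie.not_three_dvd_suzuki h
      exact key (Small.RankOne.sz (Cfsg.Agent.ThreePrime.Main.isoSuzuki hna h3))
    · obtain ⟨K1, _, _, hc, ⟨e1⟩⟩ := h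
      exact key (Small.PslChar.psl (ringChar.eq K1 2) (by norm_num) e1)
    · obtain ⟨K1, _, _, hc, -, ⟨e1⟩⟩ := h
      exact key (Small.Generic.isCharacteristicTwoType_congr e1.symm (Small.Sp.charTwo_PSp (by norm_num)))
    · obtain ⟨e1⟩ := h
      have h1 := Cfsg.Agent.StdSz.OutLie.card_A7
      rw [← Nat.card_congr e1.toEquiv] at h1
      omega
  -- the front
  have tight : TightAt K := EvenPair.tight_of_standard hK
  obtain ⟨S, hS, -⟩ := exists_isSyl (G := G) (M := K) (Q := ⊥) IsPGroup.of_bot bot_le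
  obtain ⟨p, h, V⟩ := KD.exists_kd (by omega : 1 ≤ m) hF e hS
  have hperf' : ⁅K, K⁆ = K := by
    have h2 := congrArg (Subgroup.map K.subtype) hperf
    rw [Subgroup.map_commutator, ← MonoidHom.range_eq_map, Subgroup.range_subtype] at h2
    exact h2
  have hneK : K ≠ ⊥ := by
    rintro rfl
    have h1 := V.le (V.p_mem 0 1)
    rw [mem_bot] at h1
    exact one_ne_zero (V.z_eq_one h1)
  have hev := hK.2.1.1
  have := V.charP
  obtain ⟨D, Q, T, g, M⟩ := Front.exists_mv V hm tight hev hrk
    (EvenPair.exists_even (Rk2.p1173 G (Start.oddCore_eq_bot hx2)) tight hev hneK hperf'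
      (fun k hk c hc => mem_centralizer_iff.mp hc k hk))
  exact M.false hidx hcl

end Cfsg.Agent.H337.Bend.RkSzPf
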